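/-
The points of one norm of a 5-dimensional orthogonal space over three elements in two disguises: the isotropic
points of a unitary 4-space over four elements and the non-singular vectors of a 6-dimensional quadric of minus type.

Main results: `ChartU.chart3_four`, `chart3_of_minus_six`.
-/
import Cfsg.Agent.Lib.FischerMain.Defs
import Cfsg.Agent.Lib.FischerMain.Unitary.Tables
import Cfsg.Agent.Lib.ThreeTransSU.GensCert

set_option autoImplicit false
set_option linter.unusedSectionVars false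

namespace Cfsg.Agent.FischerMain

open Cfsg Cfsg.Agent.SU32 Cfsg.Agent.ThreeTransSU Cfsg.Agent.U62Cover
open Cfsg.Agent.ThreeTransSU.GensCert (vec hk allVecs smulL vec_ofFn ofFn_mem hf_map)
open QuadraticMap (polar)

variable {G : Type*} [Group G]

/-- The sum of the squares of five coordinates. -/
noncomputable def sq5 : QuadraticForm (ZMod 3) (Fin 5 → ZMod 3) :=
  QuadraticMap.weightedSumSquares (ZMod 3) (fun _ : Fin 5 => (1 : ZMod 3))

/-- The scalar product. -/
def dot5 (u v : Fin 5 → ZMod 3) : ZMod 3 := ∑ i, u i * v i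

theorem sq5_apply (v : Fin 5 → ZMod 3) : sq5 v = dot5 v v := by
  simp [sq5, dot5, QuadraticMap.weightedSumSquares_apply]

theorem polar_sq5 (u v : Fin 5 → ZMod 3) : polar ⇑sq5 u v = 2 * dot5 u v := by
  simp only [polar, sq5_apply, dot5, Finset.mul_sum, ← Finset.sum_sub_distrib, Pi.add_apply]
  exact Finset.sum_congr rfl fun i _ => by ring

theorem sq5_nondeg : sq5.polarBilin.Nondegenerate := by
  have key : ∀ x : Fin 5 → ZMod 3, (∀ y, polar ⇑sq5 x y = 0) → x = 0 := fun x hx => by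
    funext i
    have h := hx (Pi.single i 1)
    rw [polar_sq5, mul_eq_zero] at h
    have h' := h.resolve_left (by decide)
    simpa [dot5, Pi.single_apply] using h'
  exact ⟨fun x hx => key x fun y => hx y,
    fun y hy => key y fun x => by rw [QuadraticMap.polar_comm]; exact hy x⟩

/-- The reflection of `v` in a vector `u` of norm `c`, with the scalar product. -/
def rd (c : ZMod 3) (u v : Fin 5 → ZMod 3) : Fin 5 → ZMod 3 := v - (c⁻¹ * (2 * dot5 u v)) • u

theorem rv_sq5 (c : ZMod 3) (u v : Fin 5 → ZMod 3) : rv sq5 c u v = rd c u v := by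
  rw [rv, rd, polar_sq5]

theorem polar_eq_zero_iff {u v : Fin 5 → ZMod 3} : polar ⇑sq5 u v = 0 ↔ dot5 u v = 0 := by
  rw [polar_sq5, mul_eq_zero]
  exact or_iff_right (by decide)

theorem rd_neg_left (c : ZMod 3) (u v : Fin 5 → ZMod 3) : rd c (-u) v = rd c u v := by
  funext i
  simp [rd, dot5, Finset.sum_neg_distrib]

theorem rd_neg_right (c : ZMod 3) (u v : Fin 5 → ZMod 3) : rd c u (-v) = -rd c u v := by
  funext i
  simp [rd, dot5, Finset.sum_neg_distrib]
  ring

theorem pm_join {u a b : Fin 5 → ZMod 3} (h1 : u = a ∨ u = -a) (h2 : u = b ∨ u = -b) : a = b ∨ a = -b := by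
  rcases h1 with rfl | rfl <;> rcases h2 with h | h
  · exact Or.inl h
  · exact Or.inr h
  · exact Or.inr (neg_eq_iff_eq_neg.1 h)
  · exact Or.inl (neg_injective h)

theorem pm_symm {u a : Fin 5 → ZMod 3} (h : u = a ∨ u = -a) : a = u ∨ a = -u :=
  h.imp Eq.symm fun e => neg_eq_iff_eq_neg.1 e.symm

theorem pm_trans {u v a : Fin 5 → ZMod 3} (h1 : v = u ∨ v = -u) (h2 : u = a ∨ u = -a) : v = a ∨ v = -a := by
  rcases h1 with rfl | rfl <;> rcases h2 with h | h
  · exact Or.inl h
  · exact Or.inr h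
  · exact Or.inr (congrArg Neg.neg h)
  · exact Or.inl ((congrArg Neg.neg h).trans (neg_neg a))

/-- A chart from a table. -/
theorem chart3_of_table {X : Set G} {k : ℕ} [NeZero k] {c : ZMod 3} (hc : c ≠ 0) (g : Fin k → G)
    (V : Fin k → Fin 5 → ZMod 3) (hgX : ∀ i, g i ∈ X) (hsurj : ∀ y ∈ X, ∃ i, g i = y)
    (hinj : Function.Injective g) (hV : ∀ i, dot5 (V i) (V i) = c)
    (hcov : ∀ v, dot5 v v = c → ∃ i, v = V i ∨ v = -V i)
    (hsep : ∀ i j, V i = V j ∨ V i = -V j → i = j)
    (hcomm : ∀ i j, Commute (g i) (g j) ↔ i = j ∨ dot5 (V i) (V j) = 0)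
    (hconj : ∀ i j, ∃ l, g i * g j * g i = g l ∧ (rd c (V i) (V j) = V l ∨ rd c (V i) (V j) = -V l)) :
    ∃ ψ : (Fin 5 → ZMod 3) → G, Chart3 X sq5 c ψ := by
  classical
  let idx : (Fin 5 → ZMod 3) → Fin k := fun v => if h : dot5 v v = c then (hcov v h).choose else 0
  have hidx : ∀ v, dot5 v v = c → v = V (idx v) ∨ v = -V (idx v) := fun v h => by
    simp only [idx, dif_pos h]; exact (hcov v h).choose_spec
  have uniq : ∀ v i, dot5 v v = c → (v = V i ∨ v = -V i) → idx v = i := fun v i h hi => by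
    exact hsep _ _ (pm_join (hidx v h) hi)
  have hq : ∀ {v}, sq5 v = c ↔ dot5 v v = c := fun {v} => by rw [sq5_apply]
  refine ⟨fun v => g (idx v), hc, sq5_nondeg, fun v _ => hgX _, fun y hy => ?_, fun u v hu hv => ?_,
    fun u v hu hv => ?_, fun u v hu hv => ?_⟩
  · obtain ⟨i, rfl⟩ := hsurj y hy
    exact ⟨V i, hq.2 (hV i), congrArg g (uniq _ i (hV i) (Or.inl rfl))⟩
  · rw [hq] at hu hv
    rw [hinj.eq_iff]
    constructor
    · intro e
      exact pm_trans (hidx v hv) (e ▸ pm_symm (hidx u hu))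
    · intro h
      exact (uniq v (idx u) hv (pm_trans h (hidx u hu))).symm
  · rw [hq] at hu hv
    rw [hcomm, polar_eq_zero_iff]
    have hd : dot5 (V (idx u)) (V (idx v)) = 0 ↔ dot5 u v = 0 := by
      rcases hidx u hu with a | a <;> rcases hidx v hv with b | b <;> conv_rhs => rw [a, b]
      all_goals simp [dot5, Finset.sum_neg_distrib]
    rw [hd]
    constructor
    · rintro (e | e)
      · exact Or.inr (pm_trans (hidx v hv) (e ▸ pm_symm (hidx u hu)))
      · exact Or.inl e
    · rintro (e | e)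
      · exact Or.inr e
      · exact Or.inl (uniq v (idx u) hv (pm_trans e (hidx u hu))).symm
  · rw [hq] at hu hv
    obtain ⟨l, hl, hl'⟩ := hconj (idx u) (idx v)
    show g (idx u) * g (idx v) * g (idx u) = g (idx (rv sq5 c u v))
    have hcases : rd c u v = V l ∨ rd c u v = -V l := by
      rcases hidx u hu with a | a <;> rcases hidx v hv with b | b <;> rcases hl' with d | d <;>
        (rw [a, b]; simp only [rd_neg_left, rd_neg_right, d, neg_neg, true_or, or_true])
    have hnorm : dot5 (rd c u v) (rd c u v) = c := by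
      rcases hcases with d | d <;> rw [d]
      · exact hV l
      · simpa [dot5] using hV l
    rw [hl, rv_sq5, uniq _ l hnorm hcases]

/-! ### forty-five points -/

/-- The vector of the list. -/
def z5 (l : List (ZMod 3)) : Fin 5 → ZMod 3 := fun i => l.getD i.val 0

theorem z5_cases {p : List (List (ZMod 3))} (c : ZMod 3)
    (h : ∀ a b d e f : ZMod 3, a * a + b * b + d * d + e * e + f * f = c →
      ∃ l ∈ p, [a, b, d, e, f] = l ∨ [a, b, d, e, f] = l.map fun t => -t) (v : Fin 5 → ZMod 3)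
    (hv : dot5 v v = c) : ∃ l ∈ p, v = z5 l ∨ v = -z5 l := by
  have hl : z5 [v 0, v 1, v 2, v 3, v 4] = v := by funext i; fin_cases i <;> rfl
  obtain ⟨l, hl1, hl2⟩ := h (v 0) (v 1) (v 2) (v 3) (v 4) (by rw [← hv, dot5, Fin.sum_univ_five])
  refine ⟨l, hl1, hl2.imp (fun e => by rw [← hl, e]) fun e => ?_⟩
  rw [← hl, e]
  funext i
  rcases lt_or_ge i.val l.length with hi | hi
  · simp [z5, List.getD_eq_getElem?_getD, List.getElem?_map, List.getElem?_eq_getElem hi]
  · simp [z5, List.getD_eq_getElem?_getD, List.getElem?_eq_none hi]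

/-- The points of norm one. -/
def V45 (i : Fin 45) : Fin 5 → ZMod 3 := z5 (v45.getD i.val [])

/-- The isotropic points. -/
def W45 (i : Fin 45) : List K4 := w45.getD i.val []

/-- The image index. -/
def T45 (i j : Fin 45) : Fin 45 := Fin.ofNat 45 ((t45.getD i.val []).getD j.val 0)

theorem v45_norm : ∀ i : Fin 45, dot5 (V45 i) (V45 i) = 1 := by decide +kernel

theorem v45_cover : ∀ a b d e f : ZMod 3, a * a + b * b + d * d + e * e + f * f = 1 →
    ∃ l ∈ v45, [a, b, d, e, f] = l ∨ [a, b, d, e, f] = l.map fun t => -t := by decide +kernel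

theorem v45_sep : ∀ i j : Fin 45, V45 i = V45 j ∨ V45 i = -V45 j → i = j := by decide +kernel

theorem w45_iso : ∀ i : Fin 45, hk 4 (W45 i) (W45 i) = .z ∧ ∃ k, vec 4 (W45 i) k ≠ .z := by
  decide +kernel

theorem w45_cover : ∀ x ∈ allVecs 4, hk 4 x x = .z → (∃ k, vec 4 x k ≠ .z) →
    ∃ i : Fin 45, x = smulL 4 .o (W45 i) ∨ x = smulL 4 .w (W45 i) ∨ x = smulL 4 .w2 (W45 i) := by
  decide +kernel

theorem w45_sep : ∀ i j : Fin 45, smulL 4 .o (W45 j) = smulL 4 .o (W45 i) ∨
    smulL 4 .o (W45 j) = smulL 4 .w (W45 i) ∨ smulL 4 .o (W45 j) = smulL 4 .w2 (W45 i) → i = j := by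
  decide +kernel

theorem w45_comm : ∀ i j : Fin 45, hk 4 (W45 i) (W45 j) = .z ↔ i = j ∨ dot5 (V45 i) (V45 j) = 0 := by
  decide +kernel

theorem w45_conj : ∀ i j : Fin 45, (rd 1 (V45 i) (V45 j) = V45 (T45 i j) ∨
      rd 1 (V45 i) (V45 j) = -V45 (T45 i j)) ∧
    (GensCert.refl 4 (W45 i) (W45 j) = smulL 4 .o (W45 (T45 i j)) ∨
      GensCert.refl 4 (W45 i) (W45 j) = smulL 4 .w (W45 (T45 i j)) ∨
      GensCert.refl 4 (W45 i) (W45 j) = smulL 4 .w2 (W45 (T45 i j))) := by
  decide +kernel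

/-- The isotropic points of a unitary 4-space are a chart over three elements. -/
theorem ChartU.chart3_four {F : Type} [Field F] [Fintype F] {X : Set G} {pt : (Fin 4 → F) → G}
    (h : ChartU X pt) :
    ∃ (Q : QuadraticForm (ZMod 3) (Fin 5 → ZMod 3)) (ψ : (Fin 5 → ZMod 3) → G), Chart3 X Q 1 ψ := by
  classical
  have hF := h.card
  let e : K4 ≃+* F := FiniteField.ringEquivOfCardEq (hF ▸ K4.card_eq)
  let emb : List K4 → Fin 4 → F := fun l k => e (vec 4 l k)
  have hemb : ∀ c l, emb (smulL 4 c l) = e c • emb l := fun c l => by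
    funext k
    show e (vec 4 (smulL 4 c l) k) = e c * e (vec 4 l k)
    rw [smulL, vec_ofFn, map_mul]
  have hnz : ∀ {c : K4}, c ≠ .z → e c ≠ 0 := fun hc h0 => hc (e.injective (h0.trans (map_zero e).symm))
  have hiso : ∀ i, Iso (emb (W45 i)) := fun i => by
    obtain ⟨h1, k, hk'⟩ := w45_iso i
    refine ⟨fun h0 => hk' (e.injective ((congrFun h0 k).trans (map_zero e).symm)), ?_⟩
    show hf (fun k => e _) (fun k => e _) = 0
    rw [hf_map e, show Cfsg.hermForm 4 K4 2 _ _ = (0 : K4) from h1, map_zero]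
  have hsame : ∀ {x : List K4} {i : Fin 45}, (x = smulL 4 .o (W45 i) ∨ x = smulL 4 .w (W45 i) ∨
      x = smulL 4 .w2 (W45 i)) → ∃ a : F, a ≠ 0 ∧ emb x = a • emb (W45 i) := by
    rintro x i (rfl | rfl | rfl) <;> exact ⟨_, hnz (by decide), hemb _ _⟩
  obtain ⟨ψ, hψ⟩ := chart3_of_table (X := X) (c := 1) one_ne_zero (fun i => pt (emb (W45 i))) V45
    (fun i => h.mem _ (hiso i))
    (fun y hy => by
      obtain ⟨v, hv, rfl⟩ := h.surj y hy
      set l := List.ofFn fun k => e.symm (v k) with hl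
      have hel : emb l = v := funext fun k => by
        show e (vec 4 l k) = v k
        rw [hl, vec_ofFn, e.apply_symm_apply]
      obtain ⟨i, hi⟩ := w45_cover l (ofFn_mem 4 _) (e.injective (by
          rw [← hel] at hv
          have := hv.2
          rw [show hf (emb l) (emb l) = e (hk 4 l l) from hf_map e _ _] at this
          exact this.trans (map_zero e).symm)) (by
          by_contra hc
          refine hv.1 (hel ▸ funext fun k => ?_)
          show e (vec 4 l k) = 0
          rw [show vec 4 l k = (0 : K4) from by_contra fun h0 => hc ⟨k, h0⟩, map_zero])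
      obtain ⟨a, ha, e'⟩ := hsame hi
      exact ⟨i, (h.eq_iff _ _ (hiso i) hv).2 ⟨a, ha, hel ▸ e'⟩⟩)
    (fun i j hij => by
      obtain ⟨a, ha, e'⟩ := (h.eq_iff _ _ (hiso i) (hiso j)).1 hij
      refine w45_sep i j ?_
      have key : smulL 4 .o (W45 j) = smulL 4 (e.symm a) (W45 i) := by
        refine congrArg List.ofFn (funext fun k => e.injective ?_)
        have := congrFun e' k
        simp only [emb, Pi.smul_apply, smul_eq_mul] at this
        rw [map_mul, map_mul, e.apply_symm_apply, ← this, show (K4.o : K4) = 1 from rfl, map_one, one_mul]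
      rcases hs : e.symm a with _ | _ | _ | _
      · exact absurd (e.symm.injective (hs.trans (map_zero e.symm).symm)) ha
      all_goals rw [hs] at key; simp [key])
    v45_norm
    (fun v hv => by
      obtain ⟨l, hl, hl'⟩ := z5_cases 1 v45_cover v hv
      obtain ⟨i, hi, rfl⟩ := List.getElem_of_mem hl
      refine ⟨⟨i, hi⟩, ?_⟩
      rw [V45, List.getD_eq_getElem v45 [] hi]
      exact hl')
    v45_sep
    (fun i j => by
      rw [h.comm _ _ (hiso i) (hiso j), ← w45_comm,
        show hf (emb (W45 i)) (emb (W45 j)) = e (hk 4 (W45 i) (W45 j)) from hf_map e _ _]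
      exact ⟨fun h0 => e.injective (h0.trans (map_zero e).symm), fun h0 => by rw [h0]; exact map_zero e⟩)
    (fun i j => by
      obtain ⟨h1, h2⟩ := w45_conj i j
      refine ⟨T45 i j, ?_, h1⟩
      rw [h.conj _ _ (hiso i) (hiso j)]
      obtain ⟨a, ha, e'⟩ := hsame h2
      have hact : act (tv h.card (emb (W45 i))) (emb (W45 j)) = emb (GensCert.refl 4 (W45 i) (W45 j)) := by
        rw [act_tv _ (hiso i).2,
          show hf (emb (W45 j)) (emb (W45 i)) = e (hk 4 (W45 j) (W45 i)) from hf_map e _ _]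
        funext k
        show e (vec 4 (W45 j) k) + e (hk 4 (W45 j) (W45 i)) * e (vec 4 (W45 i) k) =
          e (vec 4 (GensCert.refl 4 (W45 i) (W45 j)) k)
        rw [GensCert.refl, vec_ofFn, map_add, map_mul]
      rw [hact, e']
      exact ((h.eq_iff _ _ (hiso _) ((hiso _).smul hF ha)).2 ⟨a, ha, rfl⟩).symm)
  exact ⟨sq5, ψ, hψ⟩

/-! ### thirty-six points -/

/-- The points of norm two. -/
def V36 (i : Fin 36) : Fin 5 → ZMod 3 := z5 (v36.getD i.val [])

/-- The non-singular vectors. -/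
def P36 (i : Fin 36) : (Fin 2 ⊕ Fin 2) ⊕ Fin 2 → ZMod 2
  | .inl (.inl k) => (p36.getD i.val []).getD k.val 0
  | .inl (.inr k) => (p36.getD i.val []).getD (2 + k.val) 0
  | .inr k => (p36.getD i.val []).getD (4 + k.val) 0

/-- The image index. -/
def T36 (i j : Fin 36) : Fin 36 := Fin.ofNat 36 ((t36.getD i.val []).getD j.val 0)

/-- The quadric. -/
abbrev q6 : ((Fin 2 ⊕ Fin 2) ⊕ Fin 2 → ZMod 2) → ZMod 2 := quadFormMinus 2 (ZMod 2) 1 1

theorem v36_norm : ∀ i : Fin 36, dot5 (V36 i) (V36 i) = 2 := by decide +kernel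

theorem v36_cover : ∀ a b d e f : ZMod 3, a * a + b * b + d * d + e * e + f * f = 2 →
    ∃ l ∈ v36, [a, b, d, e, f] = l ∨ [a, b, d, e, f] = l.map fun t => -t := by decide +kernel

theorem v36_sep : ∀ i j : Fin 36, V36 i = V36 j ∨ V36 i = -V36 j → i = j := by decide +kernel

theorem p36_norm : ∀ i : Fin 36, q6 (P36 i) = 1 := by decide +kernel

theorem p36_cover : ∀ v, q6 v = 1 → ∃ i : Fin 36, v = P36 i := by decide +kernel

theorem p36_sep : ∀ i j : Fin 36, P36 i = P36 j → i = j := by decide +kernel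

theorem p36_comm : ∀ i j : Fin 36, polar q6 (P36 i) (P36 j) = 0 ↔ i = j ∨ dot5 (V36 i) (V36 j) = 0 := by
  decide +kernel

theorem p36_conj : ∀ i j : Fin 36, (rd 2 (V36 i) (V36 j) = V36 (T36 i j) ∨
      rd 2 (V36 i) (V36 j) = -V36 (T36 i j)) ∧
    P36 j + polar q6 (P36 i) (P36 j) • P36 i = P36 (T36 i j) := by
  decide +kernel

/-- A quadric of minus type in dimension six is a chart over three elements. -/
theorem chart3_of_minus_six {X : Set G} (p : ((Fin 2 ⊕ Fin 2) ⊕ Fin 2 → ZMod 2) → G)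
    (hmem : ∀ a, q6 a = 1 → p a ∈ X) (hsurj : ∀ y ∈ X, ∃ a, q6 a = 1 ∧ p a = y)
    (hinj : ∀ a b, q6 a = 1 → q6 b = 1 → p a = p b → a = b)
    (hcomm : ∀ a b, q6 a = 1 → q6 b = 1 → (Commute (p a) (p b) ↔ polar q6 a b = 0))
    (hconj : ∀ a b, q6 a = 1 → q6 b = 1 → p a * p b * p a = p (b + polar q6 a b • a)) :
    ∃ (Q : QuadraticForm (ZMod 3) (Fin 5 → ZMod 3)) (c : ZMod 3) (ψ : (Fin 5 → ZMod 3) → G),
      Chart3 X Q c ψ := by
  obtain ⟨ψ, hψ⟩ := chart3_of_table (X := X) (c := 2) (by decide) (fun i => p (P36 i)) V36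
    (fun i => hmem _ (p36_norm i))
    (fun y hy => by
      obtain ⟨a, ha, rfl⟩ := hsurj y hy
      obtain ⟨i, rfl⟩ := p36_cover a ha
      exact ⟨i, rfl⟩)
    (fun i j hij => p36_sep i j (hinj _ _ (p36_norm i) (p36_norm j) hij))
    v36_norm
    (fun v hv => by
      obtain ⟨l, hl, hl'⟩ := z5_cases 2 v36_cover v hv
      obtain ⟨i, hi, rfl⟩ := List.getElem_of_mem hl
      refine ⟨⟨i, hi⟩, ?_⟩
      rw [V36, List.getD_eq_getElem v36 [] hi]
      exact hl')
    v36_sep
    (fun i j => by rw [hcomm _ _ (p36_norm i) (p36_norm j), p36_comm])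
    (fun i j => ⟨T36 i j, by rw [hconj _ _ (p36_norm i) (p36_norm j), (p36_conj i j).2],
      (p36_conj i j).1⟩)
  exact ⟨sq5, 2, ψ, hψ⟩

end Cfsg.Agent.FischerMain
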