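/-
Charts of the unitary classes.

Main results: `UKind.exists_chart`, `ChartU.conj_image`, `ChartU.exists_at`.
-/
import Cfsg.Agent.Lib.FischerMain.Defs
import Cfsg.Agent.Lib.FischerPolar.RankOne

set_option autoImplicit false
set_option linter.unusedSectionVars false

namespace Cfsg.Agent.FischerMain

open Cfsg Cfsg.Agent.ThreeTransRank Cfsg.Agent.ThreeTrans Cfsg.Agent.ThreeTransSU Cfsg.Agent.U62Cover

variable {G : Type*} [Group G] {D : Set G}

/-- A class of unitary type has a chart. -/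
theorem UKind.exists_chart (h : UKind G D) :
    ∃ n : ℕ, 4 ≤ n ∧ ∃ (F : Type) (_ : Field F) (_ : Fintype F) (pt : (Fin n → F) → G), ChartU D pt := by
  obtain ⟨n, F, iF, iT, hF, hn, e, he⟩ := h
  let pt : (Fin n → F) → G := fun v => e.symm (toPSU n F (tv hF v))
  have hpt : ∀ v, e (pt v) = toPSU n F (tv hF v) := fun v => e.apply_symm_apply _
  have hmem : ∀ v, Iso v → pt v ∈ D := fun v hv => by
    have h1 : e (pt v) ∈ e '' D := by
      rw [he, hpt]; exact ⟨tv hF v, FischerPolar.rank_tv_sub_one hF hv, rfl⟩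
    exact e.injective.mem_set_image.1 h1
  have hsurj : ∀ y ∈ D, ∃ v, Iso v ∧ pt v = y := fun y hy => by
    have h1 : e y ∈ e '' D := ⟨y, hy, rfl⟩
    rw [he] at h1
    obtain ⟨g, hg, hgy⟩ := h1
    obtain ⟨v, hv, rfl⟩ := FischerPolar.exists_tv_of_rank hF hg
    exact ⟨v, hv, e.injective ((hpt v).trans hgy)⟩
  refine ⟨n, hn, F, iF, iT, pt, hF, hmem, hsurj, fun u v hu hv => ?_, fun u v hu hv => ?_, fun u v hu hv => ?_,
    fun g => ⟨e.symm (toPSU n F g), ?_, fun v hv => ?_⟩⟩
  · constructor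
    · intro h1
      exact mk_tv_inj hF (by omega) hu hv (e.symm.injective h1)
    · rintro ⟨a, ha, rfl⟩
      show e.symm _ = e.symm _
      rw [tv_smul hF hu ha]
  · rw [← mk_tv_comm hF (by omega) hu hv, ← hpt, ← hpt]
    exact ⟨fun h1 => h1.map e, fun h1 => by simpa using h1.map e.symm⟩
  · apply e.injective
    rw [map_mul, map_mul, hpt, hpt, hpt, ← tv_conj_inv hF (tv hF u) hv.2, tv_inv hF hu.2, map_mul, map_mul]
  · have h1 : g ∈ Subgroup.closure {A : Cfsg.SU n F 2 | ∃ v, Iso v ∧ A = tv hF v} := by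
      rw [closure_tv hF hn]; trivial
    have h2 : (e.symm.toMonoidHom.comp (toPSU n F)) g ∈ (Subgroup.closure
        {A : Cfsg.SU n F 2 | ∃ v, Iso v ∧ A = tv hF v}).map (e.symm.toMonoidHom.comp (toPSU n F)) :=
      Subgroup.mem_map_of_mem _ h1
    rw [MonoidHom.map_closure] at h2
    refine (Subgroup.closure_le (Subgroup.closure D)).2 ?_ h2
    rintro _ ⟨_, ⟨v, hv, rfl⟩, rfl⟩
    exact Subgroup.subset_closure (hmem v hv)
  · apply e.injective
    rw [map_mul, map_mul, map_inv, hpt, hpt, e.apply_symm_apply, ← map_inv, ← map_mul, ← map_mul,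
      tv_conj_inv hF g hv.2]

variable {F : Type} [Field F] [Fintype F] {n : ℕ}

/-- The transport of a chart by conjugation. -/
theorem ChartU.conj_image {X : Set G} {pt : (Fin n → F) → G} (h : ChartU X pt) (k : G) :
    ChartU ((fun y => k * y * k⁻¹) '' X) (fun v => k * pt v * k⁻¹) := by
  refine ⟨h.card, fun v hv => ⟨_, h.mem v hv, rfl⟩, ?_, fun u v hu hv => ?_, fun u v hu hv => ?_,
    fun u v hu hv => ?_, fun g => ?_⟩
  · rintro _ ⟨y, hy, rfl⟩
    obtain ⟨v, hv, rfl⟩ := h.surj y hy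
    exact ⟨v, hv, rfl⟩
  · exact (MulAut.conj k).injective.eq_iff.trans (h.eq_iff u v hu hv)
  · rw [← h.comm u v hu hv]
    exact ⟨fun h1 => by simpa [mul_assoc] using h1.map (MulAut.conj k).symm,
      fun h1 => h1.map (MulAut.conj k)⟩
  · show _ = k * pt (act (tv h.card u) v) * k⁻¹
    rw [← h.conj u v hu hv]
    group
  · obtain ⟨x, hx, hxv⟩ := h.realise g
    refine ⟨k * x * k⁻¹, ?_, fun v hv => ?_⟩
    · have h1 : (MulAut.conj k).toMonoidHom x ∈ (Subgroup.closure X).map (MulAut.conj k).toMonoidHom :=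
        Subgroup.mem_map_of_mem _ hx
      rw [MonoidHom.map_closure] at h1
      exact h1
    · rw [← hxv v hv]; group

/-- A chart at one member gives one at every member. -/
theorem ChartU.exists_at (hD : IsThreeTranspositionClass D) {x y : G} (hx : x ∈ D) (hy : y ∈ D)
    {pt : (Fin n → F) → G} (h : ChartU (adj D x) pt) :
    ∃ pt' : (Fin n → F) → G, ChartU (adj D y) pt' := by
  obtain ⟨k, rfl⟩ := class_conj hD hx hy
  rw [adj_conj_image (group_of_class hD).2.1]
  exact ⟨_, h.conj_image k⟩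

end Cfsg.Agent.FischerMain
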