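/-
The pattern of a non-commuting member in a unitary local chart: it meets every totally isotropic line through one
of its points in exactly one further point, and is determined, up to conjugation by the base member, by its part
orthogonal to one of its points.

Main definitions: `patU`.
Main results: `line_transfer`, `patU_line`, `patU_determined`, `patU_smul`, `patU_act`, `exists_pair`.
-/
import Cfsg.Agent.Lib.FischerMain.Unitary.Kind

set_option autoImplicit false
set_option linter.unusedSectionVars false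

namespace Cfsg.Agent.FischerMain

open Cfsg Cfsg.Agent.ThreeTransRank Cfsg.Agent.ThreeTrans Cfsg.Agent.ThreeTransSU Cfsg.Agent.U62Cover

variable {F : Type} [Field F] [Fintype F] {n : ℕ}

/-- Orthogonal isotropic vectors with the same orthogonal isotropic vectors span one line with `p`. -/
theorem line_of_same_perp (hF : Fintype.card F = 4) {p a b : Fin n → F} (hp : Iso p) (ha : Iso a)
    (hap : hf a p = 0) (hpa : ∀ c : F, a ≠ c • p) (hb : Iso b) (hbp : hf b p = 0)
    (H : ∀ c, Iso c → hf c p = 0 → (hf c a = 0 ↔ hf c b = 0)) : ∃ α β : F, b = α • a + β • p := by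
  by_contra hcon
  have hab : hf a b = 0 := (H a ha hap).1 ha.2
  have hli : LinearIndependent F ![p, a, b] := by
    rw [Fintype.linearIndependent_iff]
    intro g hg
    rw [Fin.sum_univ_three] at hg
    simp only [Matrix.cons_val_zero, Matrix.cons_val_one, Matrix.cons_val] at hg
    have h2 : g 2 = 0 := by
      by_contra h0
      refine hcon ⟨-(g 1 / g 2), -(g 0 / g 2), funext fun i => ?_⟩
      have h1 := congrFun hg i
      simp only [Pi.add_apply, Pi.smul_apply, smul_eq_mul, Pi.zero_apply] at h1 ⊢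
      field_simp
      linear_combination h1
    rw [h2, zero_smul, add_zero] at hg
    have h1 : g 1 = 0 := by
      by_contra h0
      refine hpa (-(g 0 / g 1)) (funext fun i => ?_)
      have h1 := congrFun hg i
      simp only [Pi.add_apply, Pi.smul_apply, smul_eq_mul, Pi.zero_apply] at h1 ⊢
      field_simp
      linear_combination h1
    rw [h1, zero_smul, add_zero] at hg
    have h0 := (smul_eq_zero.1 hg).resolve_right hp.1
    intro i; fin_cases i <;> assumption
  obtain ⟨x, hx⟩ := exists_dual hF hli ![0, 0, 1]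
  have hxp : hf x p = 0 := hx 0
  have hxa : hf x a = 0 := hx 1
  have hxb : hf x b = 1 := hx 2
  obtain ⟨t, ht⟩ := exists_trace hF ((herm hF).self_fixed x)
  have hcp : hf (x + t • b) p = 0 := by rw [hf_add_left hF, hf_smul_left hF, hxp, hbp]; simp
  have hca : hf (x + t • b) a = 0 := by
    rw [hf_add_left hF, hf_smul_left hF, hxa, (hf_eq_zero_symm hF).1 hab]; simp
  have hcb : hf (x + t • b) b = 1 := by rw [hf_add_left hF, hf_smul_left hF, hxb, hb.2]; simp
  have hc : Iso (x + t • b) := by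
    refine ⟨fun h => one_ne_zero (hcb.symm.trans (by rw [h, hf_zero_left hF])), ?_⟩
    rw [hf_add_left hF, hf_add_right hF, hf_add_right hF, hf_smul_left hF, hf_smul_left hF,
      hf_smul_right hF, hf_smul_right hF, hxb, hf_eq_one_symm hF hxb, hb.2]
    have ht' : t + t ^ 2 = hf x x := ht
    linear_combination ht' + (hf x x) * two_eq_zero hF
  exact one_ne_zero (hcb.symm.trans ((H _ hc hcp).1 hca))

/-- A vector orthogonal to the isotropic vectors orthogonal to a hyperbolic pair lies in its span. -/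
theorem mem_span_of_iso_perp (hF : Fintype.card F = 4) (hn : 5 ≤ n) {p q a : Fin n → F} (hp : Iso p)
    (hq : Iso q) (hpq : hf p q = 1) (H : ∀ c, Iso c → hf c p = 0 → hf c q = 0 → hf c a = 0) :
    a = hf a q • p + hf a p • q := by
  have hqp := hf_eq_one_symm hF hpq
  by_contra hne
  set z := a + hf a q • p + hf a p • q with hz
  have hz0 : z ≠ 0 := fun h0 => hne (funext fun i => (eq_iff_add_eq_zero hF).2 (by
    have := congrFun h0 i
    simp only [hz, Pi.add_apply, Pi.zero_apply] at this ⊢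
    rwa [← add_assoc]))
  have hzp : hf z p = 0 := by
    rw [hz, hf_add_left hF, hf_add_left hF, hf_smul_left hF, hf_smul_left hF, hp.2, hqp]
    linear_combination hf a p * two_eq_zero hF
  have hzq : hf z q = 0 := by
    rw [hz, hf_add_left hF, hf_add_left hF, hf_smul_left hF, hf_smul_left hF, hpq, hq.2]
    linear_combination hf a q * two_eq_zero hF
  obtain ⟨c, hc0, hcp, hcq, hzc⟩ := exists_orth_iso hF hn hp hq hpq hz0 hzp hzq 1
  have hc : Iso c := ⟨fun h => one_ne_zero (hzc.symm.trans (by rw [h, hf_zero_right hF])), hc0⟩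
  have h1 := H c hc hcp hcq
  rw [hz, hf_add_left hF, hf_add_left hF, hf_smul_left hF, hf_smul_left hF,
    (hf_eq_zero_symm hF).1 h1, (hf_eq_zero_symm hF).1 hcp, (hf_eq_zero_symm hF).1 hcq] at hzc
  simp at hzc

variable {G : Type*} [Group G] {D : Set G} {x v z : G}
variable {pt pt' : (Fin n → F) → G}

/-- A common neighbour of two commuting members, seen in both charts. -/
theorem counterpart (h : ChartU (adj D x) pt) (h' : ChartU (adj D v) pt') {a0 p a : Fin n → F}
    (ha0 : Iso a0) (hv : pt a0 = v) (hp : Iso p) (hx' : pt' p = x)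
    (ha : Iso a) (haa : hf a a0 = 0) (hne : ∀ c : F, a ≠ c • a0) :
    ∃ a', Iso a' ∧ pt' a' = pt a ∧ hf a' p = 0 ∧ ∀ c : F, a' ≠ c • p := by
  obtain ⟨haD, hax, hxa⟩ := h.mem a ha
  have hav : pt a ≠ v := fun e => by
    obtain ⟨c, -, hc⟩ := (h.eq_iff _ _ ha0 ha).1 (hv.trans e.symm)
    exact hne c hc
  have hcomm : Commute v (pt a) := by
    rw [← hv]
    exact ((h.comm a a0 ha ha0).2 haa).symm
  obtain ⟨a', ha', e⟩ := h'.surj (pt a) ⟨haD, hav, hcomm⟩
  refine ⟨a', ha', e, ?_, fun c hc => ?_⟩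
  · rw [← h'.comm a' p ha' hp, e, hx']
    exact hxa.symm
  · have hc0 : c ≠ 0 := fun h0 => ha'.1 (by rw [hc, h0, zero_smul])
    have := (h'.eq_iff p a' hp ha').2 ⟨c, hc0, hc⟩
    exact hax (by rw [← e, ← this, hx'])

/-- Lines through the base point correspond. -/
theorem line_transfer (h : ChartU (adj D x) pt) (h' : ChartU (adj D v) pt')
    {a0 p a b a' b' : Fin n → F} (ha0 : Iso a0) (hv : pt a0 = v) (hp : Iso p) (hx' : pt' p = x)
    (ha : Iso a) (ha' : Iso a') (hb : Iso b) (hb' : Iso b') (hb0 : ∀ c : F, b ≠ c • a0)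
    (hap : hf a' p = 0) (hpa : ∀ c : F, a' ≠ c • p) (hbp : hf b' p = 0)
    (ea : pt' a' = pt a) (eb : pt' b' = pt b) {α β : F} (hlin : b = α • a + β • a0) :
    ∃ α' β' : F, b' = α' • a' + β' • p := by
  have hF := h.card
  have hα : α ^ 2 ≠ 0 := pow_ne_zero _ fun h0 => hb0 β (by rw [hlin, h0, zero_smul, zero_add])
  refine line_of_same_perp hF hp ha' hap hpa hb' hbp fun c hc hcp => ?_
  by_cases hcs : ∃ t : F, c = t • p
  · obtain ⟨t, rfl⟩ := hcs
    simp only [hf_smul_left hF, (hf_eq_zero_symm hF).1 hap, (hf_eq_zero_symm hF).1 hbp]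
  obtain ⟨d, hd, ed, hda, -⟩ := counterpart h' h hp hx' ha0 hv hc hcp fun t e => hcs ⟨t, e⟩
  rw [← h'.comm c a' hc ha', ← h'.comm c b' hc hb', ea, eb, ← ed, h.comm d a hd ha, h.comm d b hd hb,
    hlin, hf_add_right hF, hf_smul_right hF, hf_smul_right hF, hda, mul_zero, add_zero, mul_eq_zero,
    or_iff_right hα]

/-- The members of the chart commuting with `z`. -/
def patU (pt : (Fin n → F) → G) (z : G) : Set (Fin n → F) := {a | Iso a ∧ Commute (pt a) z}

theorem patU_smul (hF : Fintype.card F = 4) {X : Set G} (h : ChartU X pt) {a : Fin n → F}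
    (ha : a ∈ patU pt z) {c : F} (hc : c ≠ 0) : c • a ∈ patU pt z := by
  refine ⟨ha.1.smul hF hc, ?_⟩
  rw [← (h.eq_iff a (c • a) ha.1 (ha.1.smul hF hc)).2 ⟨c, hc, rfl⟩]
  exact ha.2

theorem patU_act {X : Set G} (h : ChartU X pt) {a b : Fin n → F} (ha : a ∈ patU pt z)
    (hb : b ∈ patU pt z) : act (tv h.card a) b ∈ patU pt z :=
  ⟨hb.1.act _, by rw [← h.conj a b ha.1 hb.1]; exact (ha.2.mul_left hb.2).mul_left ha.2⟩

/-- On every line through a point of the pattern there is exactly one further point. -/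
theorem patU_line (hD : IsThreeTranspositionClass D) (hx : x ∈ D) (h : ChartU (adj D x) pt)
    (hz : z ∈ nonc D x) {a0 a : Fin n → F} (ha0 : a0 ∈ patU pt z) (ha : Iso a) (haa : hf a a0 = 0)
    (hne : ∀ c : F, a ≠ c • a0) : ∃! t : F, a + t • a0 ∈ patU pt z := by
  have hF := h.card
  have hvD := (h.mem a0 ha0.1).1
  obtain ⟨pt', h'⟩ := h.exists_at hD hx hvD
  obtain ⟨p, hp, hx'⟩ := h'.surj x ⟨hx, fun e => (h.mem a0 ha0.1).2.1 e.symm, (h.mem a0 ha0.1).2.2.symm⟩
  have hzv : z ≠ pt a0 := fun e => hz.2 (e ▸ (h.mem a0 ha0.1).2.2)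
  obtain ⟨q, hq, hz'⟩ := h'.surj z ⟨hz.1, hzv, ha0.2⟩
  have hpq : hf p q ≠ 0 := fun e => hz.2 (by rw [← hx', ← hz']; exact (h'.comm p q hp hq).2 e)
  have hv : pt a0 = pt a0 := rfl
  -- the isotropic vectors of the line
  have hiso : ∀ t : F, Iso (a + t • a0) ∧ hf (a + t • a0) a0 = 0 ∧ ∀ c : F, a + t • a0 ≠ c • a0 := fun t => by
    refine ⟨⟨fun e => hne (-t) (by rw [neg_smul]; exact eq_neg_of_add_eq_zero_left e), ?_⟩, ?_,
      fun c e => hne (c - t) (by rw [sub_smul, ← e, add_sub_cancel_right])⟩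
    · rw [hf_add_left hF, hf_add_right hF, hf_add_right hF, hf_smul_left hF, hf_smul_left hF,
        hf_smul_right hF, hf_smul_right hF, ha.2, haa, (hf_eq_zero_symm hF).1 haa, ha0.1.2]
      simp
    · rw [hf_add_left hF, hf_smul_left hF, haa, ha0.1.2]; simp
  refine existsUnique_of_exists_of_unique ?_ fun s t hs ht => ?_
  · obtain ⟨a', ha', ea, hap, hpa⟩ := counterpart h h' ha0.1 hv hp hx' ha haa hne
    set s := hf a' q / hf p q
    have hb'q : hf (a' + s • p) q = 0 := by
      rw [hf_add_left hF, hf_smul_left hF, div_mul_cancel₀ _ hpq, add_self hF]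
    have hb'p : hf (a' + s • p) p = 0 := by rw [hf_add_left hF, hf_smul_left hF, hap, hp.2]; simp
    have hb'ne : ∀ c : F, a' + s • p ≠ c • p := fun c e =>
      hpa (c - s) (by rw [sub_smul, ← e, add_sub_cancel_right])
    have hb' : Iso (a' + s • p) := by
      refine ⟨fun e => hb'ne 0 (by rw [e, zero_smul]), ?_⟩
      rw [hf_add_left hF, hf_add_right hF, hf_add_right hF, hf_smul_left hF, hf_smul_left hF,
        hf_smul_right hF, hf_smul_right hF, ha'.2, hap, (hf_eq_zero_symm hF).1 hap, hp.2]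
      simp
    obtain ⟨b, hb, eb, hba, hbne⟩ := counterpart h' h hp hx' ha0.1 hv hb' hb'p hb'ne
    obtain ⟨α, β, hl⟩ := line_transfer h' h hp hx' ha0.1 hv ha' ha hb' hb hb'ne haa hne hba ea.symm eb
      (α := 1) (β := s) (by rw [one_smul])
    have hα : α ≠ 0 := fun e => hbne β (by rw [hl, e, zero_smul, zero_add])
    have hmem : b ∈ patU pt z := ⟨hb, by rw [eb, ← hz']; exact (h'.comm _ q hb' hq).2 hb'q⟩
    refine ⟨β / α, ?_⟩
    have := patU_smul hF h hmem (inv_ne_zero hα)
    rwa [hl, smul_add, smul_smul, smul_smul, inv_mul_cancel₀ hα, one_smul, ← div_eq_inv_mul] at this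
  · obtain ⟨hs1, hs2, hs3⟩ := hiso s
    obtain ⟨ht1, ht2, ht3⟩ := hiso t
    obtain ⟨s', hs', es, hsp, hps⟩ := counterpart h h' ha0.1 hv hp hx' hs1 hs2 hs3
    obtain ⟨t', ht', et, htp, -⟩ := counterpart h h' ha0.1 hv hp hx' ht1 ht2 ht3
    obtain ⟨α, β, hl⟩ := line_transfer h h' ha0.1 hv hp hx' hs1 hs' ht1 ht' ht3 hsp hps htp es et
      (α := 1) (β := t - s) (by rw [one_smul, sub_smul]; abel)
    have hsq : hf s' q = 0 := (h'.comm s' q hs' hq).1 (by rw [es, hz']; exact hs.2)
    have htq : hf t' q = 0 := (h'.comm t' q ht' hq).1 (by rw [et, hz']; exact ht.2)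
    rw [hl, hf_add_left hF, hf_smul_left hF, hf_smul_left hF, hsq, mul_zero, zero_add,
      mul_eq_zero, or_iff_left hpq] at htq
    rw [htq, zero_smul, add_zero] at hl
    have hα : α ≠ 0 := fun e => ht'.1 (by rw [hl, e, zero_smul])
    have e1 : pt' s' = pt' t' := (h'.eq_iff s' t' hs' ht').2 ⟨α, hα, hl⟩
    rw [es, et] at e1
    obtain ⟨c, -, hc⟩ := (h.eq_iff _ _ hs1 ht1).1 e1
    by_contra hst
    have hc1 : c = 1 := by
      by_contra hc1
      refine hne (-((t - c * s) / (1 - c))) (funext fun i => ?_)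
      have h1 := congrFun hc i
      simp only [Pi.add_apply, Pi.smul_apply, smul_eq_mul] at h1 ⊢
      have : (1 : F) - c ≠ 0 := sub_ne_zero.2 (Ne.symm hc1)
      field_simp
      linear_combination h1
    rw [hc1, one_smul, add_right_inj] at hc
    exact hst (smul_left_injective F ha0.1.1 hc).symm

/-- The part orthogonal to one point determines the member up to conjugation by the base member. -/
theorem patU_determined (hD : IsThreeTranspositionClass D) (hn : 5 ≤ n) (hx : x ∈ D)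
    (h : ChartU (adj D x) pt) {z₂ : G} (hz : z ∈ nonc D x) (hz₂ : z₂ ∈ nonc D x) {a0 : Fin n → F}
    (ha0 : a0 ∈ patU pt z) (ha0₂ : a0 ∈ patU pt z₂)
    (H : ∀ a, Iso a → hf a a0 = 0 → a ∈ patU pt z → a ∈ patU pt z₂) : patU pt z₂ = patU pt z := by
  have hF := h.card
  have hvD := (h.mem a0 ha0.1).1
  obtain ⟨pt', h'⟩ := h.exists_at hD hx hvD
  obtain ⟨p, hp, hx'⟩ := h'.surj x ⟨hx, fun e => (h.mem a0 ha0.1).2.1 e.symm, (h.mem a0 ha0.1).2.2.symm⟩
  obtain ⟨q₀, hq₀, hz'₀⟩ := h'.surj z ⟨hz.1, fun e => hz.2 (e ▸ (h.mem a0 ha0.1).2.2), ha0.2⟩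
  obtain ⟨q₂, hq₂, hz₂'⟩ := h'.surj z₂ ⟨hz₂.1, fun e => hz₂.2 (e ▸ (h.mem a0 ha0.1).2.2), ha0₂.2⟩
  have hpq₀ : hf p q₀ ≠ 0 := fun e => hz.2 (by rw [← hx', ← hz'₀]; exact (h'.comm p q₀ hp hq₀).2 e)
  obtain ⟨t, ht⟩ : ∃ t, t = ((hf p q₀)⁻¹) ^ 2 := ⟨_, rfl⟩
  have ht0 : t ≠ 0 := ht ▸ pow_ne_zero _ (inv_ne_zero hpq₀)
  obtain ⟨q, hqdef⟩ : ∃ q, q = t • q₀ := ⟨_, rfl⟩
  have hq : Iso q := hqdef ▸ hq₀.smul hF ht0
  have hz' : pt' q = z := by rw [← hz'₀]; exact ((h'.eq_iff q₀ q hq₀ hq).2 ⟨t, ht0, hqdef⟩).symm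
  have hpq : hf p q = 1 := by
    rw [hqdef, hf_smul_right hF, ht,
      show ((((hf p q₀)⁻¹) ^ 2) ^ 2) = (hf p q₀)⁻¹ from Cfsg.Agent.Unitary.pow_q_pow_q (card_sq hF) _,
      inv_mul_cancel₀ hpq₀]
  have key := mem_span_of_iso_perp hF hn hp hq hpq (a := q₂) fun c hc hcp hcq => by
    have hcne : ∀ s : F, c ≠ s • p := fun s e => by
      have hs : s = 0 := by
        rw [e, hf_smul_left hF, hpq, mul_one] at hcq; exact hcq
      exact hc.1 (by rw [e, hs, zero_smul])
    obtain ⟨a, ha, ea, haa, -⟩ := counterpart h' h hp hx' ha0.1 rfl hc hcp hcne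
    refine (h'.comm c q₂ hc hq₂).1 ?_
    rw [hz₂', ← ea]
    exact (H a ha haa ⟨ha, by rw [ea, ← hz']; exact (h'.comm c q hc hq).2 hcq⟩).2
  obtain ⟨α, hα⟩ : ∃ α, α = hf q₂ q := ⟨_, rfl⟩
  obtain ⟨β, hβdef⟩ : ∃ β, β = hf q₂ p := ⟨_, rfl⟩
  rw [← hα, ← hβdef] at key
  have hβ : β ≠ 0 := fun e => hz₂.2 (by
    rw [← hx', ← hz₂']; exact ((h'.comm q₂ p hq₂ hp).2 (hβdef ▸ e)).symm)
  have hqp := hf_eq_one_symm hF hpq
  have hnorm : α * β * (α + β) = 0 := by
    have h0 := hq₂.2
    rw [key, hf_add_left hF, hf_add_right hF, hf_add_right hF, hf_smul_left hF, hf_smul_left hF,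
      hf_smul_left hF, hf_smul_left hF, hf_smul_right hF, hf_smul_right hF, hf_smul_right hF,
      hf_smul_right hF, hp.2, hq.2, hpq, hqp] at h0
    linear_combination h0
  rcases mul_eq_zero.1 hnorm with h0 | h0
  · rw [(mul_eq_zero.1 h0).resolve_right hβ, zero_smul, zero_add] at key
    have e : z₂ = z := by rw [← hz', ← hz₂']; exact ((h'.eq_iff q q₂ hq hq₂).2 ⟨β, hβ, key⟩).symm
    rw [e]
  · rw [(eq_iff_add_eq_zero hF).2 h0, ← smul_add] at key
    have e : x * z * x = z₂ := by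
      rw [← hx', ← hz', h'.conj p q hp hq, ← hz₂']
      refine (h'.eq_iff _ _ (hq.act _) hq₂).2 ⟨β, hβ, ?_⟩
      rw [act_tv hF hp.2, hqp, one_smul, key, add_comm p]
    have hxx : x * x = 1 := ThreeTrans.mul_self hD.1 hx
    ext a
    refine and_congr_right fun ha => ?_
    have hax : Commute (pt a) x := (h.mem a ha).2.2.symm
    constructor
    · intro hc
      have := (hax.mul_right hc).mul_right hax
      rwa [← e, show x * (x * z * x) * x = x * x * z * (x * x) by group, hxx, one_mul, mul_one] at this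
    · intro hc
      rw [← e]
      exact (hax.mul_right hc).mul_right hax

/-- Some member not commuting with `x` commutes with a neighbour of `x`. -/
theorem exists_pair [Finite G] (h : Central D) (hx : x ∈ D) :
    ∃ z ∈ nonc D x, ∃ v ∈ adj D x, Commute v z := by
  by_contra hcon
  simp only [not_exists, not_and] at hcon
  have hclosed : ∀ y ∈ D, Relation.ReflTransGen (fun u v => u ∈ D ∧ v ∈ D ∧ Commute u v) x y →
      Commute x y := by
    intro y hy hp
    induction hp with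
    | refl => exact Commute.refl x
    | @tail b c _ hbc ih =>
      by_cases hb : b = x
      · exact hb ▸ hbc.2.2
      by_contra hxc
      exact hcon c ⟨hy, hxc⟩ b ⟨hbc.1, hb, ih hbc.1⟩ hbc.2.2
  obtain ⟨y, hy, hxy⟩ := exists_not_commute h.cls h.two hx
  exact hxy (hclosed y hy (h.conn x hx y hy))

end Cfsg.Agent.FischerMain
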