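/-
No local group is unitary of dimension five over four elements.

Main results: `exists_good`, `patU_stab`, `no_local_five`.
-/
import Cfsg.Agent.Lib.FischerMain.Unitary.Pattern

set_option autoImplicit false
set_option linter.unusedSectionVars false

namespace Cfsg.Agent.FischerMain

open Cfsg Cfsg.Agent.ThreeTransRank Cfsg.Agent.ThreeTrans Cfsg.Agent.ThreeTransSU Cfsg.Agent.U62Cover

variable {F : Type} [Field F] [Fintype F]

/-- Two hyperbolic pairs, pairwise orthogonal. -/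
structure Hyp4 (v v2 w w2 : Fin 5 → F) : Prop where
  vv : hf v v = 0
  v22 : hf v2 v2 = 0
  vv2 : hf v v2 = 1
  v2v : hf v2 v = 1
  ww : hf w w = 0
  w22 : hf w2 w2 = 0
  ww2 : hf w w2 = 1
  w2w : hf w2 w = 1
  vw : hf v w = 0
  wv : hf w v = 0
  vw2 : hf v w2 = 0
  w2v : hf w2 v = 0
  v2w : hf v2 w = 0
  wv2 : hf w v2 = 0
  v2w2 : hf v2 w2 = 0
  w2v2 : hf w2 v2 = 0

theorem Hyp4.mk' (hF : Fintype.card F = 4) {v v2 w w2 : Fin 5 → F} (vv : hf v v = 0) (v22 : hf v2 v2 = 0)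
    (vv2 : hf v v2 = 1) (ww : hf w w = 0) (w22 : hf w2 w2 = 0) (ww2 : hf w w2 = 1) (vw : hf v w = 0)
    (vw2 : hf v w2 = 0) (v2w : hf v2 w = 0) (v2w2 : hf v2 w2 = 0) : Hyp4 v v2 w w2 :=
  ⟨vv, v22, vv2, hf_eq_one_symm hF vv2, ww, w22, ww2, hf_eq_one_symm hF ww2, vw, (hf_eq_zero_symm hF).1 vw,
    vw2, (hf_eq_zero_symm hF).1 vw2, v2w, (hf_eq_zero_symm hF).1 v2w, v2w2, (hf_eq_zero_symm hF).1 v2w2⟩

theorem Hyp4.li (hF : Fintype.card F = 4) {v v2 w w2 : Fin 5 → F} (h : Hyp4 v v2 w w2) :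
    LinearIndependent F ![v, v2, w, w2] := by
  rw [Fintype.linearIndependent_iff]
  intro g hg
  rw [Fin.sum_univ_four] at hg
  simp only [Matrix.cons_val_zero, Matrix.cons_val_one, Matrix.cons_val] at hg
  have key : ∀ y, g 0 * hf v y + g 1 * hf v2 y + g 2 * hf w y + g 3 * hf w2 y = 0 := fun y => by
    simp only [← hf_smul_left hF, ← hf_add_left hF, hg, hf_zero_left hF]
  have h0 := key v2
  have h1 := key v
  have h2 := key w2
  have h3 := key w
  simp only [h.vv, h.v22, h.vv2, h.v2v, h.ww, h.w22, h.ww2, h.w2w, h.vw, h.wv, h.vw2, h.w2v, h.v2w,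
    h.wv2, h.v2w2, h.w2v2, mul_zero, mul_one, add_zero, zero_add] at h0 h1 h2 h3
  intro i; fin_cases i <;> assumption

/-- Two hyperbolic pairs and a vector of norm one orthogonal to them. -/
structure Frame (v v2 w w2 f : Fin 5 → F) : Prop extends Hyp4 v v2 w w2 where
  ff : hf f f = 1
  fv : hf f v = 0
  vf : hf v f = 0
  fv2 : hf f v2 = 0
  v2f : hf v2 f = 0
  fw : hf f w = 0
  wf : hf w f = 0
  fw2 : hf f w2 = 0
  w2f : hf w2 f = 0

theorem Frame.mk' (hF : Fintype.card F = 4) {v v2 w w2 f : Fin 5 → F} (h : Hyp4 v v2 w w2)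
    (ff : hf f f = 1) (fv : hf f v = 0) (fv2 : hf f v2 = 0) (fw : hf f w = 0) (fw2 : hf f w2 = 0) :
    Frame v v2 w w2 f :=
  ⟨h, ff, fv, (hf_eq_zero_symm hF).1 fv, fv2, (hf_eq_zero_symm hF).1 fv2, fw, (hf_eq_zero_symm hF).1 fw,
    fw2, (hf_eq_zero_symm hF).1 fw2⟩

/-- Two hyperbolic pairs extend to a frame. -/
theorem Hyp4.exists_frame (hF : Fintype.card F = 4) {v v2 w w2 : Fin 5 → F} (h : Hyp4 v v2 w w2) :
    ∃ f, Frame v v2 w w2 f := by
  have hd := finrank_perp hF (h.li hF)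
  obtain ⟨⟨a, ha⟩, ha0, -⟩ := finrank_eq_one_iff'.1 (show Module.finrank F (perp hF ![v, v2, w, w2]) = 1 by omega)
  have hp := (mem_perp hF).1 ha
  have hav : hf a v = 0 := hp 0
  have hav2 : hf a v2 = 0 := hp 1
  have haw : hf a w = 0 := hp 2
  have haw2 : hf a w2 = 0 := hp 3
  refine ⟨a, Frame.mk' hF h (fixed_eq_one hF ((herm hF).self_fixed a) fun haa => ?_) hav hav2 haw haw2⟩
  have hli : LinearIndependent F ![v, w, a] := by
    rw [Fintype.linearIndependent_iff]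
    intro g hg
    rw [Fin.sum_univ_three] at hg
    simp only [Matrix.cons_val_zero, Matrix.cons_val_one, Matrix.cons_val] at hg
    have key : ∀ y, g 0 * hf v y + g 1 * hf w y + g 2 * hf a y = 0 := fun y => by
      simp only [← hf_smul_left hF, ← hf_add_left hF, hg, hf_zero_left hF]
    have h0 := key v2
    have h1 := key w2
    simp only [h.vv2, h.wv2, hav2, h.vw2, h.ww2, haw2, mul_zero, mul_one, add_zero, zero_add] at h0 h1
    rw [h0, h1, zero_smul, zero_smul, zero_add, zero_add] at hg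
    have h2 := (smul_eq_zero.1 hg).resolve_right fun e => ha0 (Subtype.ext e)
    intro i; fin_cases i <;> assumption
  have := two_mul_le hF hli fun i j => by
    fin_cases i <;> fin_cases j <;>
      simp [h.vv, h.vw, h.wv, h.ww, hav, haw, haa, (hf_eq_zero_symm hF).1 hav, (hf_eq_zero_symm hF).1 haw]
  omega

/-- The coordinates in a frame of a vector orthogonal to its first pair. -/
theorem Frame.expand (hF : Fintype.card F = 4) {v v2 w w2 f a : Fin 5 → F} (h : Frame v v2 w w2 f)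
    (hav : hf a v = 0) (hav2 : hf a v2 = 0) : a = hf a w2 • w + hf a w • w2 + hf a f • f := by
  obtain ⟨d, hd⟩ : ∃ d, d = a + hf a w2 • w + hf a w • w2 + hf a f • f := ⟨_, rfl⟩
  have hdp : d ∈ perp hF ![v, v2, w, w2] := (mem_perp hF).2 fun i => by
    fin_cases i <;>
      simp [hd, hf_add_left hF, hf_smul_left hF, hav, hav2, h.wv, h.w2v, h.fv, h.wv2, h.w2v2, h.fv2, h.ww,
        h.w2w, h.fw, h.ww2, h.w22, h.fw2, add_self hF]
  have hfp : f ∈ perp hF ![v, v2, w, w2] := (mem_perp hF).2 fun i => by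
    fin_cases i <;> simp [h.fv, h.fv2, h.fw, h.fw2]
  have h1 := finrank_perp hF (h.toHyp4.li hF)
  obtain ⟨c, hc⟩ := exists_smul_eq_of_finrank_eq_one (show Module.finrank F (perp hF ![v, v2, w, w2]) = 1 by omega)
    (x := ⟨f, hfp⟩) (fun e => one_ne_zero (h.ff.symm.trans (by
      rw [show f = 0 from congrArg Subtype.val e, hf_zero_left hF]))) ⟨d, hdp⟩
  have hc' : c • f = d := congrArg Subtype.val hc
  have hdf : hf d f = 0 := by
    rw [hd]; simp [hf_add_left hF, hf_smul_left hF, h.wf, h.w2f, h.ff, add_self hF]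
  rw [← hc', hf_smul_left hF, h.ff, mul_one] at hdf
  rw [hdf, zero_smul, hd] at hc'
  refine funext fun i => (eq_iff_add_eq_zero hF).2 ?_
  have := congrFun hc'.symm i
  simp only [Pi.add_apply, Pi.zero_apply] at this ⊢
  linear_combination this

/-- A frame through any isotropic vector. -/
theorem exists_frame (hF : Fintype.card F = 4) {v : Fin 5 → F} (hv : Iso v) :
    ∃ v2 w w2 f, Frame v v2 w w2 f := by
  obtain ⟨x, hx⟩ := exists_hf_one hF hv.1
  obtain ⟨t, ht⟩ := exists_trace hF ((herm hF).self_fixed x)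
  have ht' : t + t ^ 2 = hf x x := ht
  obtain ⟨v2, hv2⟩ : ∃ v2, v2 = x + t • v := ⟨_, rfl⟩
  have h2v : hf v2 v = 1 := by rw [hv2, hf_add_left hF, hf_smul_left hF, hx, hv.2]; simp
  have h22 : hf v2 v2 = 0 := by
    simp only [hv2, hf_add_left hF, hf_add_right hF, hf_smul_left hF, hf_smul_right hF, hx,
      hf_eq_one_symm hF hx, hv.2]
    linear_combination ht' + (hf x x) * two_eq_zero hF
  have hv2I : Iso v2 := ⟨fun e => one_ne_zero (h2v.symm.trans (by rw [e, hf_zero_left hF])), h22⟩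
  have hvv2 := hf_eq_one_symm hF h2v
  obtain ⟨e, he, hep⟩ := exists_aniso_perp hF ![v, v2] (by norm_num)
  have he0 : e ≠ 0 := fun h => one_ne_zero (he.symm.trans (by rw [h, hf_zero_left hF]))
  obtain ⟨w, hw, hwv, hwv2, hew⟩ := exists_orth_iso hF le_rfl hv hv2I hvv2 he0 (hep 0) (hep 1) 1
  have hw0 : w ≠ 0 := fun h => one_ne_zero (hew.symm.trans (by rw [h, hf_zero_right hF]))
  obtain ⟨w2, hw2, hw2v, hw2v2, hww2⟩ := exists_orth_iso hF le_rfl hv hv2I hvv2 hw0 hwv hwv2 1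
  have h4 : Hyp4 v v2 w w2 := Hyp4.mk' hF hv.2 h22 hvv2 hw hw2 hww2 ((hf_eq_zero_symm hF).1 hwv)
    ((hf_eq_zero_symm hF).1 hw2v) ((hf_eq_zero_symm hF).1 hwv2) ((hf_eq_zero_symm hF).1 hw2v2)
  obtain ⟨f, hf'⟩ := h4.exists_frame hF
  exact ⟨v2, w, w2, f, hf'⟩

variable {G : Type*} [Group G] {D : Set G} {x z : G} {pt : (Fin 5 → F) → G}

/-- The part of the pattern orthogonal to one of its points consists of the points of a non-degenerate plane. -/
theorem exists_good (hD : IsThreeTranspositionClass D) (hx : x ∈ D) (h : ChartU (adj D x) pt)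
    (hz : z ∈ nonc D x) {v : Fin 5 → F} (hv : v ∈ patU pt z) :
    ∃ v2 w w2 f, Frame v v2 w w2 f ∧ w ∈ patU pt z ∧
      (∀ a, Iso a → hf a v = 0 → hf a v2 = 0 → a ∈ patU pt z) ∧
      ∀ a ∈ patU pt z, hf a v = 0 → (∀ c : F, a ≠ c • v) → hf a v2 = 0 := by
  have hF := h.card
  obtain ⟨ω, hω0, hω⟩ := exists_omega hF
  have h2 := two_eq_zero hF
  obtain ⟨u2, p, p2, q, hfr⟩ := exists_frame hF hv.1
  have lift : ∀ a, Iso a → hf a v = 0 → hf a u2 = 0 → ∃ t : F, a + t • v ∈ patU pt z := by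
    intro a ha hav ha2
    refine ExistsUnique.exists (patU_line hD hx h hz hv ha hav fun c e => ?_)
    have h0 : c = 0 := by rw [e, hf_smul_left hF, hfr.vv2, mul_one] at ha2; exact ha2
    exact ha.1 (by rw [e, h0, zero_smul])
  have nz : ∀ {a b : Fin 5 → F}, hf a b ≠ 0 → a ≠ 0 := fun hab e => hab (by rw [e, hf_zero_left hF])
  obtain ⟨t1, ht1⟩ := lift p ⟨nz (b := p2) (by rw [hfr.ww2]; exact one_ne_zero), hfr.ww⟩ hfr.wv hfr.wv2
  obtain ⟨t2, ht2⟩ := lift p2 ⟨nz (b := p) (by rw [hfr.w2w]; exact one_ne_zero), hfr.w22⟩ hfr.w2v hfr.w2v2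
  obtain ⟨t3, ht3⟩ := lift (q + p + ω • p2)
    ⟨nz (b := q) (by simp [hf_add_left hF, hf_smul_left hF, hfr.ff, hfr.wf, hfr.w2f]), by
      simp only [hf_add_left hF, hf_add_right hF, hf_smul_left hF, hf_smul_right hF, hfr.ff, hfr.fw,
        hfr.fw2, hfr.wf, hfr.w2f, hfr.ww, hfr.w22, hfr.ww2, hfr.w2w]
      linear_combination hω + (ω + 1) * h2⟩
    (by simp [hf_add_left hF, hf_smul_left hF, hfr.fv, hfr.wv, hfr.w2v])
    (by simp [hf_add_left hF, hf_smul_left hF, hfr.fv2, hfr.wv2, hfr.w2v2])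
  obtain ⟨w, hw⟩ : ∃ w, w = p + t1 • v := ⟨_, rfl⟩
  obtain ⟨w2, hw2⟩ : ∃ w2, w2 = p2 + t2 • v := ⟨_, rfl⟩
  rw [← hw] at ht1
  rw [← hw2] at ht2
  obtain ⟨s, hs⟩ : ∃ s, s = t3 + t1 + ω * t2 := ⟨_, rfl⟩
  obtain ⟨f, hf'⟩ : ∃ f, f = q + s • v := ⟨_, rfl⟩
  have hy : f + w + ω • w2 ∈ patU pt z := by
    rw [show f + w + ω • w2 = q + p + ω • p2 + t3 • v from funext fun i => by
      simp only [hf', hw, hw2, hs, Pi.add_apply, Pi.smul_apply, smul_eq_mul]
      linear_combination (t1 + ω * t2) * v i * h2]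
    exact ht3
  obtain ⟨z0, hz0⟩ : ∃ z0, z0 = u2 + t2 ^ 2 • p + t1 ^ 2 • p2 + s ^ 2 • q := ⟨_, rfl⟩
  obtain ⟨d, hd⟩ := exists_trace hF ((herm hF).self_fixed z0)
  have hd' : d + d ^ 2 = hf z0 z0 := hd
  obtain ⟨v2, hv2⟩ : ∃ v2, v2 = z0 + d • v := ⟨_, rfl⟩
  have hz0v : hf z0 v = 1 := by simp [hz0, hf_add_left hF, hf_smul_left hF, hfr.v2v, hfr.wv, hfr.w2v, hfr.fv]
  have h4 : Hyp4 v v2 w w2 := by
    refine Hyp4.mk' hF hfr.vv ?_ ?_ ?_ ?_ ?_ ?_ ?_ ?_ ?_
    · simp only [hv2, hf_add_left hF, hf_add_right hF, hf_smul_left hF, hf_smul_right hF, hz0v,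
        hf_eq_one_symm hF hz0v, hfr.vv]
      linear_combination hd' + (hf z0 z0) * h2
    · refine hf_eq_one_symm hF ?_
      simp [hv2, hf_add_left hF, hf_smul_left hF, hz0v, hfr.vv]
    · simp [hw, hf_add_left hF, hf_add_right hF, hf_smul_left hF, hf_smul_right hF, hfr.ww, hfr.wv, hfr.vw, hfr.vv]
    · simp [hw2, hf_add_left hF, hf_add_right hF, hf_smul_left hF, hf_smul_right hF, hfr.w22, hfr.w2v, hfr.vw2, hfr.vv]
    · simp [hw, hw2, hf_add_left hF, hf_add_right hF, hf_smul_left hF, hf_smul_right hF, hfr.ww2, hfr.wv, hfr.vw2, hfr.vv]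
    · simp [hw, hf_add_right hF, hf_smul_right hF, hfr.vw, hfr.vv]
    · simp [hw2, hf_add_right hF, hf_smul_right hF, hfr.vw2, hfr.vv]
    · simp only [hv2, hz0, hw, hf_add_left hF, hf_add_right hF, hf_smul_left hF, hf_smul_right hF, hfr.v2w,
        hfr.v2v, hfr.ww, hfr.wv, hfr.w2w, hfr.w2v, hfr.fw, hfr.fv, hfr.vw, hfr.vv]
      linear_combination t1 ^ 2 * h2
    · simp only [hv2, hz0, hw2, hf_add_left hF, hf_add_right hF, hf_smul_left hF, hf_smul_right hF, hfr.v2w2,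
        hfr.v2v, hfr.ww2, hfr.wv, hfr.w22, hfr.w2v, hfr.fw2, hfr.fv, hfr.vw2, hfr.vv]
      linear_combination t2 ^ 2 * h2
  have hfr' : Frame v v2 w w2 f := by
    refine Frame.mk' hF h4 ?_ ?_ ?_ ?_ ?_
    · simp [hf', hf_add_left hF, hf_add_right hF, hf_smul_left hF, hf_smul_right hF, hfr.ff, hfr.fv, hfr.vf, hfr.vv]
    · simp [hf', hf_add_left hF, hf_smul_left hF, hfr.fv, hfr.vv]
    · refine (hf_eq_zero_symm hF).1 ?_
      simp only [hf', hv2, hz0, hf_add_left hF, hf_add_right hF, hf_smul_left hF, hf_smul_right hF, hfr.v2f,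
        hfr.v2v, hfr.wf, hfr.wv, hfr.w2f, hfr.w2v, hfr.ff, hfr.fv, hfr.vf, hfr.vv]
      linear_combination s ^ 2 * h2
    · simp [hf', hw, hf_add_left hF, hf_add_right hF, hf_smul_left hF, hf_smul_right hF, hfr.fw, hfr.fv, hfr.vw, hfr.vv]
    · simp [hf', hw2, hf_add_left hF, hf_add_right hF, hf_smul_left hF, hf_smul_right hF, hfr.fw2, hfr.fv, hfr.vw2, hfr.vv]
  -- the points of the plane
  have R1 : ∀ a b : F, f + a • w + b • w2 ∈ patU pt z → f + (a + b) • w + b • w2 ∈ patU pt z := by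
    intro a b hab
    have := patU_act h ht1 hab
    rw [act_tv _ hfr'.ww, show hf (f + a • w + b • w2) w = b by
      simp [hf_add_left hF, hf_smul_left hF, hfr'.fw, hfr'.ww, hfr'.w2w]] at this
    rwa [show f + (a + b) • w + b • w2 = f + a • w + b • w2 + b • w by rw [add_smul]; abel]
  have R2 : ∀ a b : F, f + a • w + b • w2 ∈ patU pt z → f + a • w + (b + a) • w2 ∈ patU pt z := by
    intro a b hab
    have := patU_act h ht2 hab
    rw [act_tv _ hfr'.w22, show hf (f + a • w + b • w2) w2 = a by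
      simp [hf_add_left hF, hf_smul_left hF, hfr'.fw2, hfr'.ww2, hfr'.w22]] at this
    rwa [show f + a • w + (b + a) • w2 = f + a • w + b • w2 + a • w2 by rw [add_smul]; abel]
  have m1 : f + (1 : F) • w + ω • w2 ∈ patU pt z := by rwa [one_smul]
  have e1 : 1 + ω = ω ^ 2 := by linear_combination -hω
  have e2 : ω + 1 = ω ^ 2 := hω.symm
  have e3 : 1 + ω ^ 2 = ω := by linear_combination hω + h2
  have e4 : ω + ω ^ 2 = 1 := by linear_combination hω + ω * h2
  have m2 := R1 _ _ m1; rw [e1] at m2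
  have m3 := R2 _ _ m1; rw [e2] at m3
  have m4 := R1 _ _ m3; rw [e3] at m4
  have m5 := R2 _ _ m2; rw [e4] at m5
  have m6 := R2 _ _ m4; rw [show ω ^ 2 + ω = 1 by rw [add_comm]; exact e4] at m6
  have m7 : w + w2 ∈ patU pt z := by
    have := patU_act h ht1 ht2
    rwa [act_tv _ hfr'.ww, hfr'.w2w, one_smul, add_comm] at this
  have plane : ∀ a, Iso a → hf a v = 0 → hf a v2 = 0 → a ∈ patU pt z := by
    intro a ha hav hav2
    obtain ⟨α, hα⟩ : ∃ α, α = hf a w2 := ⟨_, rfl⟩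
    obtain ⟨β, hβ⟩ : ∃ β, β = hf a w := ⟨_, rfl⟩
    obtain ⟨γ, hγ⟩ : ∃ γ, γ = hf a f := ⟨_, rfl⟩
    have he := hfr'.expand hF hav hav2
    rw [← hα, ← hβ, ← hγ] at he
    have hn : α * β ^ 2 + α ^ 2 * β + γ * γ ^ 2 = 0 := by
      have h0 := ha.2
      rw [he] at h0
      simp only [hf_add_left hF, hf_add_right hF, hf_smul_left hF, hf_smul_right hF, hfr'.ww, hfr'.ww2,
        hfr'.w2w, hfr'.w22, hfr'.wf, hfr'.fw, hfr'.w2f, hfr'.fw2, hfr'.ff] at h0
      linear_combination h0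
    by_cases hγ0 : γ = 0
    · rw [hγ0, zero_smul, add_zero] at he
      have : α * β * (α + β) = 0 := by rw [hγ0] at hn; linear_combination hn
      rcases mul_eq_zero.1 this with h0 | h0
      · rcases mul_eq_zero.1 h0 with h0 | h0
        · rw [h0, zero_smul, zero_add] at he
          exact he ▸ patU_smul hF h ht2 fun e => ha.1 (by rw [he, e, zero_smul])
        · rw [h0, zero_smul, add_zero] at he
          exact he ▸ patU_smul hF h ht1 fun e => ha.1 (by rw [he, e, zero_smul])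
      · rw [← (eq_iff_add_eq_zero hF).2 h0, ← smul_add] at he
        exact he ▸ patU_smul hF h m7 fun e => ha.1 (by rw [he, e, zero_smul])
    obtain ⟨A, hA⟩ : ∃ A, A = α / γ := ⟨_, rfl⟩
    obtain ⟨B, hB⟩ : ∃ B, B = β / γ := ⟨_, rfl⟩
    have hAB : A * B ^ 2 + A ^ 2 * B + 1 = 0 := by
      rw [hA, hB]; field_simp; linear_combination hn
    have hmem : f + A • w + B • w2 ∈ patU pt z := by
      have hA0 : A ≠ 0 := fun e => by rw [e] at hAB; simp at hAB
      have hB0 : B ≠ 0 := fun e => by rw [e] at hAB; simp at hAB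
      have hne : A ≠ B := fun e => one_ne_zero (show (1 : F) = 0 by
        rw [e] at hAB; linear_combination hAB - B * B ^ 2 * h2)
      rcases four_cases hF hω A with rfl | rfl | rfl | rfl <;>
        rcases four_cases hF hω B with rfl | rfl | rfl | rfl <;>
        first | exact absurd rfl hA0 | exact absurd rfl hB0 | exact absurd rfl hne | assumption
    have := patU_smul hF h hmem hγ0
    rwa [smul_add, smul_add, smul_smul, smul_smul, hA, hB, mul_div_cancel₀ _ hγ0, mul_div_cancel₀ _ hγ0,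
      show γ • f + α • w + β • w2 = a by rw [he]; abel] at this
  refine ⟨v2, w, w2, f, hfr', ht1, plane, fun a ha hav hne => ?_⟩
  obtain ⟨c, hc⟩ : ∃ c, c = hf a v2 := ⟨_, rfl⟩
  have hu : a + c • v ∈ patU pt z := by
    refine plane _ ⟨fun e => hne c (funext fun i => (eq_iff_add_eq_zero hF).2 (congrFun e i)), ?_⟩ ?_ ?_
    · simp [hf_add_left hF, hf_add_right hF, hf_smul_left hF, hf_smul_right hF, ha.1.2, hav,
        (hf_eq_zero_symm hF).1 hav, hfr'.vv]
    · simp [hf_add_left hF, hf_smul_left hF, hav, hfr'.vv]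
    · simp [hf_add_left hF, hf_smul_left hF, hfr'.vv2, ← hc, add_self hF]
  obtain ⟨t, -, hu'⟩ := patU_line hD hx h hz hv ha.1 hav hne
  have h0 := hu' 0 (show a + (0 : F) • v ∈ patU pt z by rwa [zero_smul, add_zero])
  rw [← hc]
  exact (hu' c hu).trans h0.symm

/-- An element of the unitary group fixing a point of the pattern and its orthogonal part fixes the pattern. -/
theorem patU_stab (hD : IsThreeTranspositionClass D) (hx : x ∈ D) (h : ChartU (adj D x) pt)
    (hz : z ∈ nonc D x) {v : Fin 5 → F} (hv : v ∈ patU pt z) (g : Cfsg.SU 5 F 2) (hg : act g v = v)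
    (H : ∀ a, Iso a → hf a v = 0 → (a ∈ patU pt z ↔ act g a ∈ patU pt z)) :
    ∀ a, Iso a → (a ∈ patU pt z ↔ act g a ∈ patU pt z) := by
  obtain ⟨k, hk, hkv⟩ := h.realise g
  have hkx : k * x * k⁻¹ = x := by
    rw [(commute_of_mem_Loc hk).eq, mul_assoc, mul_inv_cancel, mul_one]
  have hconj : ∀ {a b : G}, Commute (k * a * k⁻¹) (k * b * k⁻¹) ↔ Commute a b := fun {a b} =>
    ⟨fun hc => by simpa [mul_assoc] using hc.map (MulAut.conj k).symm, fun hc => hc.map (MulAut.conj k)⟩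
  have hz₂ : k * z * k⁻¹ ∈ nonc D x :=
    ⟨(group_of_class hD).2.1 k z hz.1, fun hc => hz.2 (by rw [← hkx] at hc; exact hconj.1 hc)⟩
  have key : ∀ a, Iso a → (act g a ∈ patU pt (k * z * k⁻¹) ↔ a ∈ patU pt z) := fun a ha => by
    constructor
    · intro ⟨_, hc⟩
      exact ⟨ha, by rw [← hkv a ha] at hc; exact hconj.1 hc⟩
    · intro ⟨_, hc⟩
      exact ⟨ha.act g, by rw [← hkv a ha]; exact hconj.2 hc⟩
  have hv₂ : v ∈ patU pt (k * z * k⁻¹) := by rw [← hg]; exact (key v hv.1).2 hv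
  have e := patU_determined hD le_rfl hx h hz hz₂ hv hv₂ fun a ha hav haP => by
    have hb : act g (act g⁻¹ a) = a := act_act_inv g a
    have hbv : hf (act g⁻¹ a) v = 0 := by rw [← act_hf g, hb, hg]; exact hav
    have := (key (act g⁻¹ a) (ha.act _)).2 ((H _ (ha.act _) hbv).2 (by rw [hb]; exact haP))
    rwa [hb] at this
  intro a ha
  have := key a ha
  rw [e] at this
  exact this.symm

theorem no_local_five [Finite G] (h : Central D) (hx : x ∈ D) (pt : (Fin 5 → F) → G)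
    (hch : ChartU (adj D x) pt) : False := by
  have hF := hch.card
  obtain ⟨ω, hω0, hω⟩ := exists_omega hF
  have h2 := two_eq_zero hF
  have hω3 : ω * ω ^ 2 = 1 := mul_sq_self hF hω0
  obtain ⟨z, hz, y, hy, hyz⟩ := exists_pair h hx
  obtain ⟨v, hv, rfl⟩ := hch.surj y hy
  have hvP : v ∈ patU pt z := ⟨hv, hyz⟩
  obtain ⟨v2, w, w2₀, f₀, hfr₀, hwP, hplane, hline⟩ := exists_good h.cls hx hch hz hvP
  obtain ⟨u, r, r2, k, hfw, -, hplane', hline'⟩ := exists_good h.cls hx hch hz hwP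
  have hvw : ∀ c : F, v ≠ c • w := fun c e => by
    have := hfr₀.vv2; rw [e, hf_smul_left hF, hfr₀.wv2, mul_zero] at this; exact zero_ne_one this
  have hvu : hf v u = 0 := hline' v hvP hfr₀.vw hvw
  have huv := (hf_eq_zero_symm hF).1 hvu
  -- the frame at `v` through the partner of `w`
  obtain ⟨A, hA⟩ : ∃ A, A = hf u v2 := ⟨_, rfl⟩
  obtain ⟨u0, hu0⟩ : ∃ u0, u0 = u + A • v := ⟨_, rfl⟩
  have huw : hf u w = 1 := hfw.v2v
  have h4 : Hyp4 v v2 w u0 := by
    refine Hyp4.mk' hF hfr₀.vv hfr₀.v22 hfr₀.vv2 hfr₀.ww ?_ ?_ hfr₀.vw ?_ hfr₀.v2w ?_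
    · simp [hu0, hf_add_left hF, hf_add_right hF, hf_smul_left hF, hf_smul_right hF, hfw.v22, huv, hvu, hfr₀.vv]
    · simp [hu0, hf_add_right hF, hf_smul_right hF, hfw.vv2, hfr₀.wv]
    · simp [hu0, hf_add_right hF, hf_smul_right hF, hvu, hfr₀.vv]
    · refine (hf_eq_zero_symm hF).1 ?_
      simp [hu0, hf_add_left hF, hf_smul_left hF, hfr₀.vv2, ← hA, add_self hF]
  obtain ⟨f, hfr⟩ := h4.exists_frame hF
  -- the stabilizer of the plane and of `w` keeps the partner of `w`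
  have hkeep : ∀ g : Cfsg.SU 5 F 2, act g v = v → act g v2 = v2 → ∀ c : F, c ≠ 0 → act g w = c • w →
      ∃ α β : F, act g u = α • w + β • u := by
    intro g hgv hgv2 c hc hgw
    have hstab := patU_stab h.cls hx hch hz hvP g hgv fun a ha hav => by
      have hav' : hf (act g a) v = 0 := by rw [← hgv, act_hf]; exact hav
      have hav2 : hf (act g a) v2 = hf a v2 := by rw [← hgv2, act_hf, hgv2]
      by_cases hp : ∃ s : F, a = s • v
      · obtain ⟨s, rfl⟩ := hp
        rw [act_smul, hgv]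
      have hp' : ∀ s : F, act g a ≠ s • v := fun s e => hp ⟨s, (act_eq_iff g).1 (by rw [e, act_smul, hgv])⟩
      constructor
      · intro haP
        exact hplane _ (ha.act g) hav' (hav2.trans (hline a haP hav fun s e => hp ⟨s, e⟩))
      · intro haP
        exact hplane a ha hav (hav2.symm.trans (hline _ haP hav' hp'))
    have move : ∀ a, Iso a → hf a w = 0 → hf a u = 0 → hf a (act g u) = 0 := by
      intro a ha haw hau
      obtain ⟨b, hb⟩ : ∃ b, b = act g⁻¹ a := ⟨_, rfl⟩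
      have hab : act g b = a := by rw [hb]; exact act_act_inv g a
      have hbI : Iso b := hb ▸ ha.act _
      have hbw : hf b w = 0 := by
        have h0 : hf (act g b) (act g w) = 0 := by rw [hab, hgw, hf_smul_right hF, haw, mul_zero]
        rwa [act_hf] at h0
      have hbP : b ∈ patU pt z := (hstab b hbI).2 (by rw [hab]; exact hplane' a ha haw hau)
      have hbne : ∀ s : F, b ≠ s • w := fun s e => by
        rw [e, act_smul, hgw, smul_smul] at hab
        rw [← hab, hf_smul_left hF, hfw.vv2, mul_one] at hau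
        exact ha.1 (by rw [← hab, hau, zero_smul])
      rw [← hab, act_hf]
      exact hline' b hbP hbw hbne
    obtain ⟨d, hd⟩ : ∃ d, d = act g u + hf (act g u) u • w + hf (act g u) w • u := ⟨_, rfl⟩
    refine ⟨hf (act g u) u, hf (act g u) w, ?_⟩
    have hdw : hf d w = 0 := by simp [hd, hf_add_left hF, hf_smul_left hF, hfw.vv, hfw.v2v, add_self hF]
    have hdu : hf d u = 0 := by simp [hd, hf_add_left hF, hf_smul_left hF, hfw.v22, hfw.vv2, add_self hF]
    have hperp : ∀ a, Iso a → hf a w = 0 → hf a u = 0 → hf a d = 0 := fun a ha haw hau => by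
      simp [hd, hf_add_right hF, hf_smul_right hF, move a ha haw hau, haw, hau]
    have nz : ∀ {a b : Fin 5 → F}, hf a b ≠ 0 → a ≠ 0 := fun hab e => hab (by rw [e, hf_zero_left hF])
    have hr : hf r d = 0 := hperp r ⟨nz (b := r2) (by rw [hfw.ww2]; exact one_ne_zero), hfw.ww⟩ hfw.wv hfw.wv2
    have hr2 : hf r2 d = 0 := hperp r2 ⟨nz (b := r) (by rw [hfw.w2w]; exact one_ne_zero), hfw.w22⟩ hfw.w2v hfw.w2v2
    have hk : hf k d = 0 := by
      have := hperp (k + r + ω • r2)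
        ⟨nz (b := k) (by simp [hf_add_left hF, hf_smul_left hF, hfw.ff, hfw.wf, hfw.w2f]), by
          simp only [hf_add_left hF, hf_add_right hF, hf_smul_left hF, hf_smul_right hF, hfw.ff, hfw.fw,
            hfw.fw2, hfw.wf, hfw.w2f, hfw.ww, hfw.w22, hfw.ww2, hfw.w2w]
          linear_combination hω + (ω + 1) * h2⟩
        (by simp [hf_add_left hF, hf_smul_left hF, hfw.fv, hfw.wv, hfw.w2v])
        (by simp [hf_add_left hF, hf_smul_left hF, hfw.fv2, hfw.wv2, hfw.w2v2])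
      simpa [hf_add_left hF, hf_smul_left hF, hr, hr2] using this
    have he := hfw.expand hF hdw hdu
    rw [(hf_eq_zero_symm hF).1 hr2, (hf_eq_zero_symm hF).1 hr, (hf_eq_zero_symm hF).1 hk, zero_smul,
      zero_smul, zero_smul, zero_add, zero_add] at he
    rw [hd] at he
    refine funext fun i => (eq_iff_add_eq_zero hF).2 ?_
    have := congrFun he i
    simp only [Pi.add_apply, Pi.zero_apply] at this ⊢
    linear_combination this
  have hu : u = A • v + u0 := funext fun i => by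
    simp only [hu0, Pi.add_apply, Pi.smul_apply, smul_eq_mul]
    linear_combination -(A * v i) * h2
  -- scalars on the plane
  have h4' : Hyp4 v v2 (ω • w) (ω • u0) := by
    refine Hyp4.mk' hF h4.vv h4.v22 h4.vv2 ?_ ?_ ?_ ?_ ?_ ?_ ?_ <;>
      simp [hf_smul_left hF, hf_smul_right hF, h4.ww, h4.w22, h4.ww2, h4.vw, h4.vw2, h4.v2w, h4.v2w2, hω3]
  obtain ⟨g, hg⟩ := Unitary.exists_su_witt (card_sq hF) (h4.li hF) (h4'.li hF) (e := f)
    (fun i j => by
      fin_cases i <;> fin_cases j <;>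
        simp [hf_smul_left hF, hf_smul_right hF, h4.vv, h4.v22, h4.vv2, h4.v2v, h4.ww, h4.w22, h4.ww2,
          h4.w2w, h4.vw, h4.wv, h4.vw2, h4.w2v, h4.v2w, h4.wv2, h4.v2w2, h4.w2v2, hω3])
    hfr.ff (fun i => by
      fin_cases i <;> simp [hf_smul_left hF, hfr.vf, hfr.v2f, hfr.wf, hfr.w2f])
  have g0 : act g v = v := hg 0
  have g1 : act g v2 = v2 := hg 1
  have g2 : act g w = ω • w := hg 2
  have g3 : act g u0 = ω • u0 := hg 3
  obtain ⟨α, β, he⟩ := hkeep g g0 g1 ω hω0 g2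
  rw [hu, act_add, act_smul, g0, g3] at he
  have hβ := congrArg (fun p => hf p w) he
  have hAβ := congrArg (fun p => hf p v2) he
  simp only [hf_add_left hF, hf_smul_left hF, h4.vw, h4.w2w, h4.ww, h4.vv2, h4.w2v2, h4.wv2] at hβ hAβ
  have hA0 : A = 0 := by
    have h0 : A * (1 + ω) = 0 := by linear_combination hAβ + A * β * h2 + A * hβ
    exact (mul_eq_zero.1 h0).resolve_right fun e => hω0 (by
      have : ω ^ 2 = 0 := by linear_combination hω + e
      rwa [pow_eq_zero_iff two_ne_zero] at this)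
  rw [hA0, zero_smul, zero_add] at hu
  subst hu
  -- a unipotent element
  obtain ⟨u2, hu2⟩ : ∃ u2, u2 = u + f + ω • w := ⟨_, rfl⟩
  have h4'' : Hyp4 v v2 w u2 := by
    refine Hyp4.mk' hF h4.vv h4.v22 h4.vv2 h4.ww ?_ ?_ h4.vw ?_ h4.v2w ?_
    · simp only [hu2, hf_add_left hF, hf_add_right hF, hf_smul_left hF, hf_smul_right hF, h4.w22, hfr.ff,
        hfr.fw2, hfr.w2f, h4.w2w, h4.ww2, hfr.fw, hfr.wf, h4.ww]
      linear_combination hω + (ω + 1) * h2
    · simp [hu2, hf_add_right hF, hf_smul_right hF, h4.ww2, hfr.wf, h4.ww]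
    · simp [hu2, hf_add_right hF, hf_smul_right hF, h4.vw2, hfr.vf, h4.vw]
    · simp [hu2, hf_add_right hF, hf_smul_right hF, h4.v2w2, hfr.v2f, h4.v2w]
  obtain ⟨e, he'⟩ : ∃ e, e = f + w := ⟨_, rfl⟩
  obtain ⟨g, hg⟩ := Unitary.exists_su_witt (card_sq hF) (h4.li hF) (h4''.li hF) (e := e)
    (fun i j => by
      fin_cases i <;> fin_cases j <;>
        simp [h4.vv, h4.v22, h4.vv2, h4.v2v, h4.ww, h4.w22, h4.ww2, h4.w2w, h4.vw, h4.wv, h4.vw2, h4.w2v,
          h4.v2w, h4.wv2, h4.v2w2, h4.w2v2, h4''.w22,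
          h4''.ww2, h4''.w2w, h4''.vw2, h4''.w2v, h4''.v2w2, h4''.w2v2])
    (by simp [he', hf_add_left hF, hf_add_right hF, hfr.ff, hfr.fw, hfr.wf, h4.ww])
    (fun i => by
      fin_cases i <;>
        simp [he', hu2, hf_add_left hF, hf_add_right hF, hf_smul_left hF, hfr.vf, hfr.v2f, hfr.wf, h4.vw,
          h4.v2w, h4.ww, hfr.w2f, hfr.ff, h4.w2w, hfr.fw, add_self hF])
  obtain ⟨α, β, he⟩ := hkeep g (hg 0) (hg 1) 1 one_ne_zero ((hg 2).trans (one_smul F w).symm)
  rw [show act g u = u2 from hg 3, hu2] at he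
  have h0 := congrArg (fun p => hf p f) he
  simp only [hf_add_left hF, hf_smul_left hF, hfr.ff, hfr.wf, hfr.w2f] at h0
  simp at h0

end Cfsg.Agent.FischerMain
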