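/-
No local group is unitary of dimension at least eight over four elements.

Main results: `arc_false`, `no_local_large`.
-/
import Cfsg.Agent.Lib.FischerMain.Unitary.Pattern

set_option autoImplicit false
set_option linter.unusedSectionVars false

namespace Cfsg.Agent.FischerMain

open Cfsg Cfsg.Agent.ThreeTransRank Cfsg.Agent.ThreeTrans Cfsg.Agent.ThreeTransSU Cfsg.Agent.U62Cover

variable {F : Type} [Field F] [Fintype F] {n : ℕ}

/-- A set of vectors with exactly one further point on every line of the subspace through one of its points. -/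
structure TwoSet (U : Submodule F (Fin n → F)) (P : Set (Fin n → F)) : Prop where
  zero : (0 : Fin n → F) ∉ P
  smul : ∀ {a}, a ∈ P → ∀ {c : F}, c ≠ 0 → c • a ∈ P
  line : ∀ {a}, a ∈ P → a ∈ U → ∀ {b}, b ∈ U → b ∉ Submodule.span F {a} → ∃! t : F, b + t • a ∈ P

theorem card_coe (hF : Fintype.card F = 4) (W : Submodule F (Fin n → F)) :
    (W : Set (Fin n → F)).ncard = 4 ^ Module.finrank F W := by
  rw [← Nat.card_coe_set_eq]
  show Nat.card W = _
  rw [Module.natCard_eq_pow_finrank (K := F), Nat.card_eq_fintype_card, hF]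

theorem TwoSet.count (hF : Fintype.card F = 4) {U : Submodule F (Fin n → F)} {P : Set (Fin n → F)}
    (h : TwoSet U P) {W : Submodule F (Fin n → F)} (hW : W ≤ U) {a : Fin n → F} (ha : a ∈ P) (haW : a ∈ W) :
    4 * (P ∩ W).ncard = 4 ^ Module.finrank F W + 8 := by
  classical
  have ha0 : a ≠ 0 := fun e => h.zero (e ▸ ha)
  have hspan : (Submodule.span F {a} : Set (Fin n → F)).ncard = 4 := by
    rw [card_coe hF, finrank_span_singleton ha0, pow_one]
  have hle : (Submodule.span F {a} : Set (Fin n → F)) ⊆ W :=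
    (Submodule.span_singleton_le_iff_mem a W).2 haW
  have hsmall : (P ∩ W : Set (Fin n → F)) ∩ Submodule.span F {a} =
      (Submodule.span F {a} : Set (Fin n → F)) \ {0} := by
    ext y
    refine ⟨fun hy => ⟨hy.2, fun e => h.zero (e ▸ hy.1.1)⟩, fun hy => ⟨⟨?_, hle hy.1⟩, hy.1⟩⟩
    obtain ⟨c, rfl⟩ := Submodule.mem_span_singleton.1 hy.1
    exact h.smul ha fun e => hy.2 (by rw [e, zero_smul]; rfl)
  set R := (P ∩ W : Set (Fin n → F)) \ Submodule.span F {a} with hR
  have hinj : Set.InjOn (fun p : (Fin n → F) × F => p.1 + p.2 • a) (R ×ˢ Set.univ) := by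
    rintro ⟨b, s⟩ ⟨hb, -⟩ ⟨c, t⟩ ⟨hc, -⟩ e
    simp only at e
    have hcb : c = b + (s - t) • a := by rw [sub_smul, ← add_sub_assoc, e, add_sub_cancel_right]
    obtain ⟨u, -, hu⟩ := h.line ha (hW haW) (hW hb.1.2) hb.2
    have h1 := hu 0 (show b + (0 : F) • a ∈ P by rw [zero_smul, add_zero]; exact hb.1.1)
    have h2 := hu (s - t) (show b + (s - t) • a ∈ P from hcb ▸ hc.1.1)
    have hst : s - t = 0 := h2.trans h1.symm
    rw [hst, zero_smul, add_zero] at hcb
    rw [hcb, sub_eq_zero.1 hst]
  have himg : (fun p : (Fin n → F) × F => p.1 + p.2 • a) '' (R ×ˢ Set.univ) =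
      (W : Set (Fin n → F)) \ Submodule.span F {a} := by
    ext y
    constructor
    · rintro ⟨⟨b, s⟩, ⟨hb, -⟩, rfl⟩
      exact ⟨W.add_mem hb.1.2 (W.smul_mem _ haW), fun hy => hb.2 (by
        have := Submodule.sub_mem _ hy (Submodule.smul_mem _ s (Submodule.mem_span_singleton_self a))
        simpa using this)⟩
    · intro hy
      obtain ⟨t, ht, -⟩ := h.line ha (hW haW) (hW hy.1) hy.2
      refine ⟨(y + t • a, t), ⟨⟨⟨ht, W.add_mem hy.1 (W.smul_mem _ haW)⟩, fun hm => hy.2 ?_⟩, trivial⟩, ?_⟩
      · have := Submodule.sub_mem _ hm (Submodule.smul_mem _ t (Submodule.mem_span_singleton_self a))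
        simpa using this
      · show y + t • a + t • a = y
        rw [add_assoc, ThreeTransSU.vadd_self hF, add_zero]
  have h1 := hinj.ncard_image
  rw [himg, Set.ncard_prod, Set.ncard_univ, Nat.card_eq_fintype_card, hF] at h1
  have h2 := Set.ncard_sdiff hle (Set.toFinite _)
  rw [hspan, card_coe hF] at h2
  have h3 := Set.ncard_inter_add_ncard_sdiff_eq_ncard (P ∩ W : Set (Fin n → F))
    (Submodule.span F {a}) (Set.toFinite _)
  rw [hsmall, ← hR, Set.ncard_sdiff_singleton_of_mem (Submodule.zero_mem _), hspan] at h3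
  have h4 : 4 ≤ 4 ^ Module.finrank F W := by
    have := Set.ncard_le_ncard hle (Set.toFinite _)
    rwa [hspan, card_coe hF] at this
  omega

/-- There is no such set in a space of dimension four. -/
theorem arc_false (hF : Fintype.card F = 4) {u : Fin 4 → (Fin n → F)} (hu : LinearIndependent F u)
    {P : Set (Fin n → F)} (h : TwoSet (Submodule.span F (Set.range u)) P) (h0 : u 0 ∈ P) : False := by
  classical
  set U := Submodule.span F (Set.range u)
  let e3 : Fin 3 → (Fin n → F) := fun i => u i.castSucc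
  set W := Submodule.span F (Set.range e3)
  have hW : W ≤ U := Submodule.span_mono (by rintro _ ⟨i, rfl⟩; exact ⟨_, rfl⟩)
  have hdW : Module.finrank F W = 3 := by
    show Module.finrank F (Submodule.span F (Set.range e3)) = 3
    rw [finrank_span_eq_card (show LinearIndependent F e3 from hu.comp _ (Fin.castSucc_injective 3)), Fintype.card_fin]
  have hdU : Module.finrank F U = 4 := by rw [finrank_span_eq_card hu, Fintype.card_fin]
  have haW : u 0 ∈ W := Submodule.subset_span ⟨0, rfl⟩
  have hPW := h.count hF hW h0 haW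
  rw [hdW] at hPW
  have hPU := h.count hF le_rfl h0 (Submodule.subset_span ⟨0, rfl⟩)
  rw [hdU] at hPU
  -- a vector of the plane outside the set
  obtain ⟨b, hbW, hbP, hb0⟩ : ∃ b ∈ W, b ∉ P ∧ b ≠ 0 := by
    by_contra hcon
    simp only [not_exists, not_and, not_not] at hcon
    have hsub : (W : Set (Fin n → F)) \ {0} ⊆ P ∩ W := fun y hy =>
      ⟨by_contra fun hP => hy.2 (hcon y hy.1 hP), hy.1⟩
    have := Set.ncard_le_ncard hsub (Set.toFinite _)
    rw [Set.ncard_sdiff_singleton_of_mem (Submodule.zero_mem _), card_coe hF, hdW] at this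
    omega
  have hspanb : (Submodule.span F {b} : Set (Fin n → F)) ⊆ W :=
    (Submodule.span_singleton_le_iff_mem b W).2 hbW
  -- an external line
  obtain ⟨c, hcW, hcb, hext⟩ : ∃ c ∈ W, c ∉ Submodule.span F {b} ∧ ∀ s : F, c + s • b ∉ P := by
    by_contra hcon
    simp only [not_exists, not_and, not_forall, not_not] at hcon
    have two : ∀ c : ↥((W : Set (Fin n → F)) \ Submodule.span F {b}),
        ∃ s : Bool → F, Function.Injective s ∧ ∀ i, (c : Fin n → F) + s i • b ∈ P := by
      rintro ⟨c, hc, hcs⟩
      obtain ⟨s, hs⟩ := hcon c hc hcs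
      have hbs : b ∉ Submodule.span F {c + s • b} := fun hm => by
        obtain ⟨r, hr⟩ := Submodule.mem_span_singleton.1 hm
        by_cases hr0 : r = 0
        · exact hb0 (by rw [← hr, hr0, zero_smul])
        exact hbP (hr ▸ h.smul hs hr0)
      obtain ⟨t, ht, -⟩ := h.line hs (W.add_mem hc (W.smul_mem _ hbW) |> fun hm => hW hm) (hW hbW) hbs
      have ht0 : t ≠ 0 := fun e => hbP (by simpa [e] using ht)
      refine ⟨fun i => cond i s (s + t⁻¹), fun i j e => ?_, fun i => ?_⟩
      · cases i <;> cases j <;> simp_all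
      · cases i
        · have := h.smul ht (inv_ne_zero ht0)
          rw [smul_add, smul_smul, inv_mul_cancel₀ ht0, one_smul] at this
          show c + (s + t⁻¹) • b ∈ P
          rwa [add_smul, ← add_assoc, add_comm]
        · exact hs
    choose s hsinj hs using two
    let g : ↥((W : Set (Fin n → F)) \ Submodule.span F {b}) × Bool → ↥(P ∩ W) × F := fun p =>
      (⟨(p.1 : Fin n → F) + s p.1 p.2 • b, hs _ _, W.add_mem p.1.2.1 (W.smul_mem _ hbW)⟩, s p.1 p.2)
    have hg : Function.Injective g := by
      rintro ⟨c, i⟩ ⟨d, j⟩ e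
      have e1 : (c : Fin n → F) + s c i • b = (d : Fin n → F) + s d j • b :=
        congrArg (fun p : ↥(P ∩ W) × F => (p.1 : Fin n → F)) e
      have e2 : s c i = s d j := congrArg Prod.snd e
      rw [e2] at e1
      obtain rfl : c = d := Subtype.ext (add_right_cancel e1)
      rw [hsinj c e2]
    have := Nat.card_le_card_of_injective g hg
    rw [Nat.card_prod, Nat.card_prod, Nat.card_coe_set_eq, Nat.card_coe_set_eq,
      Nat.card_eq_fintype_card (α := Bool), Fintype.card_bool, Nat.card_eq_fintype_card, hF,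
      Set.ncard_sdiff hspanb (Set.toFinite _), card_coe hF, card_coe hF, hdW, finrank_span_singleton hb0]
      at this
    omega
  -- the planes through the external line
  let L := Submodule.span F (Set.range ![b, c])
  have hli : LinearIndependent F ![b, c] :=
    (LinearIndependent.pair_iff' hb0).2 fun r e => hcb (Submodule.mem_span_singleton.2 ⟨r, e⟩)
  have hLP : ∀ y ∈ L, y ∉ P := fun y hy hyP => by
    have hy' : y ∈ Submodule.span F ({b, c} : Set (Fin n → F)) := by
      rwa [← Matrix.range_cons_cons_empty]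
    obtain ⟨α, β, rfl⟩ := Submodule.mem_span_pair.1 hy'
    by_cases hβ : β = 0
    · rw [hβ, zero_smul, add_zero] at hyP
      by_cases hα : α = 0
      · exact h.zero (by rwa [hα, zero_smul] at hyP)
      · exact hbP (by
          have := h.smul hyP (inv_ne_zero hα)
          rwa [smul_smul, inv_mul_cancel₀ hα, one_smul] at this)
    · refine hext (β⁻¹ * α) ?_
      have := h.smul hyP (inv_ne_zero hβ)
      rwa [smul_add, smul_smul, smul_smul, inv_mul_cancel₀ hβ, one_smul, add_comm] at this
  have hLU : L ≤ U := Submodule.span_le.2 (by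
    rw [Matrix.range_cons_cons_empty]
    rintro y (rfl | rfl)
    exacts [hW hbW, hW hcW])
  have hdL : ∀ a ∈ P, Module.finrank F ↥(L ⊔ Submodule.span F {a}) = 3 := fun a ha => by
    have hd : Disjoint L (Submodule.span F {a}) := by
      rw [Submodule.disjoint_span_singleton' (fun e => h.zero (e ▸ ha))]
      exact fun hm => hLP a hm ha
    have := Submodule.finrank_sup_add_finrank_inf_eq L (Submodule.span F {a})
    rw [disjoint_iff.1 hd, finrank_bot, finrank_span_singleton (fun e => h.zero (e ▸ ha)),
      show Module.finrank F L = 2 by rw [finrank_span_eq_card hli, Fintype.card_fin]] at this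
    omega
  let A := (P ∩ (U : Set (Fin n → F))).toFinset
  let f : (Fin n → F) → Submodule F (Fin n → F) := fun a => L ⊔ Submodule.span F {a}
  have hfib : ∀ S ∈ A.image f, (A.filter fun a => f a = S).card = 18 := by
    intro S hS
    obtain ⟨a, ha, rfl⟩ := Finset.mem_image.1 hS
    simp only [A, Set.mem_toFinset] at ha
    have haS : a ∈ f a := Submodule.mem_sup_right (Submodule.mem_span_singleton_self a)
    have hle : f a ≤ U := sup_le hLU ((Submodule.span_singleton_le_iff_mem a U).2 ha.2)
    have e : ((A.filter fun y => f y = f a : Finset _) : Set (Fin n → F)) = P ∩ (f a : Set (Fin n → F)) := by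
      ext y
      simp only [A, Finset.coe_filter, Set.mem_toFinset, Set.mem_ofPred_eq]
      constructor
      · rintro ⟨hy, e⟩
        exact ⟨hy.1, e ▸ Submodule.mem_sup_right (Submodule.mem_span_singleton_self y)⟩
      · rintro ⟨hy, hy'⟩
        refine ⟨⟨hy, hle hy'⟩, Submodule.eq_of_le_of_finrank_eq
          (sup_le le_sup_left ((Submodule.span_singleton_le_iff_mem y _).2 hy')) ?_⟩
        rw [hdL y hy, hdL a ha.1]
    have := h.count hF hle ha.1 haS
    rw [hdL a ha.1, ← e, Set.ncard_coe_finset] at this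
    omega
  have hsum := Finset.card_eq_sum_card_image f A
  rw [Finset.sum_congr rfl hfib, Finset.sum_const, smul_eq_mul] at hsum
  rw [Set.ncard_eq_toFinset_card' (P ∩ (U : Set (Fin n → F)))] at hPU
  change 4 * A.card = _ at hPU
  omega

set_option maxHeartbeats 1600000 in
/-- An independent family of few vectors has an isotropic common perpendicular outside its span. -/
theorem exists_ti_succ (hF : Fintype.card F = 4) {k : ℕ} {u : Fin k → (Fin n → F)}
    (hu : LinearIndependent F u) (hk : 2 * k + 2 ≤ n) :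
    ∃ w, Iso w ∧ (∀ i, hf w (u i) = 0) ∧ LinearIndependent F (Fin.snoc u w : Fin (k + 1) → (Fin n → F)) := by
  obtain ⟨e, he, heu⟩ := exists_aniso_perp hF u (by omega)
  by_contra hcon
  let v : Fin (k + 1) → (Fin n → F) := Fin.snoc u e
  have hiso : ∀ p : perp hF v, hf (p : Fin n → F) p = 0 := fun p => by
    by_contra hp
    have hf1 : hf (p : Fin n → F) p = 1 := fixed_eq_one hF ((herm hF).self_fixed _) hp
    have hpe : hf (p : Fin n → F) e = 0 := by
      simpa [v] using (mem_perp hF).1 p.2 (Fin.last k)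
    have hpu : ∀ i, hf (p : Fin n → F) (u i) = 0 := fun i => by
      simpa [v] using (mem_perp hF).1 p.2 i.castSucc
    have hw1 : hf (e + (p : Fin n → F)) e = 1 := by rw [hf_add_left hF, he, hpe, add_zero]
    refine hcon ⟨e + (p : Fin n → F), ⟨fun h0 => one_ne_zero (hw1.symm.trans (by rw [h0, hf_zero_left hF])), ?_⟩,
      fun i => by rw [hf_add_left hF, heu, hpu, add_zero], linearIndependent_finSnoc.2 ⟨hu, fun hm => ?_⟩⟩
    · rw [hf_add_left hF, hf_add_right hF, hf_add_right hF, he, hf1, hpe, (hf_eq_zero_symm hF).1 hpe]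
      linear_combination two_eq_zero hF
    · have hle : Submodule.span F (Set.range u) ≤ perp hF ![e] := Submodule.span_le.2 (by
        rintro _ ⟨i, rfl⟩
        exact (mem_perp hF).2 fun j => by simpa [Fin.fin_one_eq_zero j] using (hf_eq_zero_symm hF).1 (heu i))
      exact one_ne_zero (hw1.symm.trans ((mem_perp hF).1 (hle hm) 0))
  have hz : ∀ p q : perp hF v, hf (p : Fin n → F) q = 0 :=
    ((herm hF).comap (perp hF v).subtype).eq_zero_of_isotropic (card_sq hF) hiso
  let b := Module.finBasis F (perp hF v)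
  have hb : LinearIndependent F fun i => (b i : Fin n → F) :=
    b.linearIndependent.map' _ (perp hF v).ker_subtype
  have hbe : ∀ i, hf (b i : Fin n → F) e = 0 := fun i => by
    simpa [v] using (mem_perp hF).1 (b i).2 (Fin.last k)
  have hne : e ∉ Submodule.span F (Set.range fun i => (b i : Fin n → F)) := fun hm => by
    have hle : Submodule.span F (Set.range fun i => (b i : Fin n → F)) ≤ perp hF ![e] :=
      Submodule.span_le.2 (by
        rintro _ ⟨i, rfl⟩
        exact (mem_perp hF).2 fun j => by simpa [Fin.fin_one_eq_zero j] using hbe i)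
    exact one_ne_zero (he.symm.trans ((mem_perp hF).1 (hle hm) 0))
  have h1 := finrank_perp hF (linearIndependent_finSnoc.2 ⟨hb, hne⟩)
  have h2 := le_finrank_perp hF v
  have hle : perp hF v ≤ perp hF (Fin.snoc (fun i => (b i : Fin n → F)) e) := fun p hp =>
    (mem_perp hF).2 fun i => by
      induction i using Fin.lastCases with
      | last => simpa [v] using (mem_perp hF).1 hp (Fin.last k)
      | cast i => simpa using hz ⟨p, hp⟩ (b i)
  have h3 := Submodule.finrank_mono hle
  omega

variable {G : Type*} [Group G] [Finite G] {D : Set G} {x : G}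

/-- No local group is unitary of dimension at least eight. -/
theorem no_local_large (h : Central D) (hx : x ∈ D) (hn : 8 ≤ n) (pt : (Fin n → F) → G)
    (hch : ChartU (adj D x) pt) : False := by
  have hF := hch.card
  obtain ⟨z, hz, v, hv, hvz⟩ := exists_pair h hx
  obtain ⟨a, ha, rfl⟩ := hch.surj v hv
  have hli1 : LinearIndependent F ![a] := LinearIndependent.of_subsingleton 0 ha.1
  have hti1 : ∀ i j, hf (![a] i) (![a] j) = 0 := fun i j => by
    simp [Fin.fin_one_eq_zero i, Fin.fin_one_eq_zero j, ha.2]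
  have grow : ∀ {k : ℕ} {u : Fin (k + 1) → (Fin n → F)}, LinearIndependent F u →
      (∀ i j, hf (u i) (u j) = 0) → 2 * (k + 1) + 2 ≤ n →
      ∃ w : Fin (k + 1 + 1) → (Fin n → F), LinearIndependent F w ∧ (∀ i j, hf (w i) (w j) = 0) ∧ w 0 = u 0 := by
    intro k u hu hti hk
    obtain ⟨w, hw, hwu, hli⟩ := exists_ti_succ hF hu hk
    refine ⟨_, hli, fun i j => ?_, by rw [show (0 : Fin (k + 1 + 1)) = (0 : Fin (k + 1)).castSucc from rfl, Fin.snoc_castSucc]⟩
    induction i using Fin.lastCases with
    | last =>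
      induction j using Fin.lastCases with
      | last => simpa using hw.2
      | cast j => simpa using hwu j
    | cast i =>
      induction j using Fin.lastCases with
      | last => simpa using (hf_eq_zero_symm hF).1 (hwu i)
      | cast j => simpa using hti i j
  obtain ⟨u2, hli2, hti2, e2⟩ := grow hli1 hti1 (by omega)
  obtain ⟨u3, hli3, hti3, e3⟩ := grow hli2 hti2 (by omega)
  obtain ⟨u4, hli4, hti4, e4⟩ := grow hli3 hti3 (by omega)
  have e : u4 0 = a := by rw [e4, e3, e2]; rfl
  set U := Submodule.span F (Set.range u4)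
  have hU : ∀ y ∈ U, ∀ i, hf y (u4 i) = 0 := fun y hy => by
    have hle : U ≤ perp hF u4 := Submodule.span_le.2 (by
      rintro _ ⟨j, rfl⟩; exact (mem_perp hF).2 (hti4 j))
    exact (mem_perp hF).1 (hle hy)
  have hUU : ∀ y ∈ U, ∀ y' ∈ U, hf y y' = 0 := fun y hy y' hy' => by
    have hle : U ≤ perp hF ![y] := Submodule.span_le.2 (by
      rintro _ ⟨j, rfl⟩
      exact (mem_perp hF).2 fun i => by simpa [Fin.fin_one_eq_zero i] using (hf_eq_zero_symm hF).1 (hU y hy j))
    exact (hf_eq_zero_symm hF).1 ((mem_perp hF).1 (hle hy') 0)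
  refine arc_false hF hli4 (P := patU pt z) ⟨fun h0 => h0.1.1 rfl, fun hp _ hc => patU_smul hF hch hp hc,
    fun {a'} hp hpU {b} hb hbs => ?_⟩ ⟨e ▸ ha, by rw [e]; exact hvz⟩
  refine patU_line h.cls hx hch hz hp ⟨fun h0 => hbs (by rw [h0]; exact Submodule.zero_mem _), hUU b hb b hb⟩
    (hUU b hb a' hpU) fun c hc => hbs (Submodule.mem_span_singleton.2 ⟨c, hc.symm⟩)

end Cfsg.Agent.FischerMain
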