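/-
No class has a unitary local group of dimension seven: no parameters of a strongly regular graph fit.

Main results (namespace `Cfsg.Agent.FischerMain`):
* `count_iso_seven`, `count_perp_seven` : 8127, 1983 isotropic vectors;
* `no_local_seven`.
-/
import Cfsg.Agent.Lib.FischerMain.Srg
import Cfsg.Agent.Lib.FischerMain.MChain.Unitary

set_option autoImplicit false

namespace Cfsg.Agent.FischerMain

open Cfsg Cfsg.Agent.ThreeTransRank Cfsg.Agent.ThreeTrans Cfsg.Agent.ThreeTransSU Cfsg.Agent.U62Cover
open Cfsg.Agent.Unitary Cfsg.Agent.SU32 Cfsg.Agent.ThreeTransSU.GensCert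
open Cfsg.Agent.FischerM22 (allVecs_nodup ofFn_vec)

/-- Number of isotropic vectors of dimension seven orthogonal to given vectors, computed. -/
def cntSeven (conds : List (List K4)) : ℕ :=
  (allVecs 7).countP fun x => decide (vec 7 x ≠ fun _ => .z) && decide (hk 7 x x = .z)
    && conds.all fun c => decide (hk 7 x c = .z)

theorem cntSeven_iso : cntSeven [] = 8127 := by decide +kernel

theorem cntSeven_perp : cntSeven [[.o, .o, .z, .z, .z, .z, .z]] = 1983 := by decide +kernel

section Vectors

variable {F : Type} [Field F] [Fintype F]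

theorem card_eq_cntSeven (hF : Fintype.card F = 4) (e : K4 ≃+* F) (conds : List (List K4)) :
    Nat.card {x : Fin 7 → F // Iso x ∧ ∀ c ∈ conds, hf x (fun i => e (vec 7 c i)) = 0} =
      cntSeven conds := by
  classical
  have hz : ∀ t : K4, e t = 0 ↔ t = .z := fun t => map_eq_zero_iff e e.injective
  set P : List K4 → Bool := fun x => decide (vec 7 x ≠ fun _ => .z) && decide (hk 7 x x = .z)
    && conds.all fun c => decide (hk 7 x c = .z) with hP
  have hiff : ∀ l, P l = true ↔ Iso (fun i => e (vec 7 l i)) ∧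
      ∀ c ∈ conds, hf (fun i => e (vec 7 l i)) (fun i => e (vec 7 c i)) = 0 := fun l => by
    simp only [hP, Bool.and_eq_true, decide_eq_true_eq, List.all_eq_true]
    simp only [Iso, hf_map e, hz, hk]
    refine ⟨fun h => ⟨⟨fun h0 => h.1.1 (funext fun i => (hz _).1 (congrFun h0 i)), h.1.2⟩, h.2⟩,
      fun h => ⟨⟨fun h0 => h.1.1 (funext fun i => (hz _).2 (congrFun h0 i)), h.1.2⟩, h.2⟩⟩
  have key : (Finset.univ.filter fun x : Fin 7 → F =>
      Iso x ∧ ∀ c ∈ conds, hf x (fun i => e (vec 7 c i)) = 0)
      = (((allVecs 7).filter P).toFinset).image fun l i => e (vec 7 l i) := by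
    ext x
    simp only [Finset.mem_filter, Finset.mem_univ, true_and, Finset.mem_image, List.mem_toFinset,
      List.mem_filter]
    constructor
    · intro hx
      have ex : (fun i => e (vec 7 (List.ofFn fun i => e.symm (x i)) i)) = x :=
        funext fun i => by rw [vec_ofFn]; exact e.apply_symm_apply _
      refine ⟨List.ofFn fun i => e.symm (x i), ⟨ofFn_mem 7 _, (hiff _).2 ?_⟩, ex⟩
      rw [ex]; exact hx
    · rintro ⟨l, ⟨-, hl⟩, rfl⟩
      exact (hiff l).1 hl
  rw [Nat.card_eq_fintype_card, Fintype.card_subtype, key, Finset.card_image_of_injOn,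
    List.toFinset_card_of_nodup ((allVecs_nodup 7).filter _), cntSeven, List.countP_eq_length_filter]
  intro l hl l' hl' h
  simp only [Finset.mem_coe, List.mem_toFinset, List.mem_filter] at hl hl'
  rw [← ofFn_vec hl.1, ← ofFn_vec hl'.1]
  exact congrArg List.ofFn (funext fun i => e.injective (congrFun h i))

theorem count_iso_seven (hF : Fintype.card F = 4) : Nat.card {x : Fin 7 → F // Iso x} = 8127 := by
  let e : K4 ≃+* F := FiniteField.ringEquivOfCardEq (hF ▸ K4.card_eq)
  rw [← cntSeven_iso, ← card_eq_cntSeven hF e []]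
  exact Nat.card_congr (Equiv.subtypeEquivRight fun x => by simp)

theorem count_perp_seven (hF : Fintype.card F = 4) {u : Fin 7 → F} (hu : Iso u) :
    Nat.card {x : Fin 7 → F // Iso x ∧ hf x u = 0} = 1983 := by
  let e : K4 ≃+* F := FiniteField.ringEquivOfCardEq (hF ▸ K4.card_eq)
  set u0 : Fin 7 → F := fun i => e (vec 7 [.o, .o, .z, .z, .z, .z, .z] i)
  have h0 : Iso u0 := by
    refine ⟨fun h1 => ?_, ?_⟩
    · have := (map_eq_zero_iff e e.injective).1 (congrFun h1 0)
      exact absurd this (by decide +kernel)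
    · show hf u0 u0 = 0
      rw [hf_map e]
      exact (map_eq_zero_iff e e.injective).2 (by decide +kernel)
  obtain ⟨g, hg⟩ := exists_act hF (by norm_num) hu h0
  rw [← cntSeven_perp, ← card_eq_cntSeven hF e]
  refine Nat.card_congr
    { toFun := fun x => ⟨act g x.1, x.2.1.act g, fun c hc => ?_⟩
      invFun := fun x => ⟨act g⁻¹ x.1, x.2.1.act g⁻¹, ?_⟩
      left_inv := fun x => Subtype.ext (act_inv_act g x.1)
      right_inv := fun x => Subtype.ext (act_act_inv g x.1) }
  · simp only [List.mem_singleton] at hc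
    subst hc
    show hf (act g x.1) u0 = 0
    rw [← hg, act_hf]; exact x.2.2
  · rw [← act_hf g, act_act_inv, hg]
    exact x.2.2 _ (List.mem_singleton.2 rfl)

/-- Points against vectors, for a chart of any dimension. -/
theorem ChartU.card_vecs {G : Type*} [Group G] [Finite G] {n : ℕ} {X : Set G} {pt : (Fin n → F) → G}
    (h : ChartU X pt) (P : G → Prop) :
    Nat.card {v : Fin n → F // Iso v ∧ P (pt v)} = 3 * {y | y ∈ X ∧ P y}.ncard := by
  classical
  have hfin := (Set.toFinite {y | y ∈ X ∧ P y})
  rw [Nat.card_eq_fintype_card, Fintype.card_subtype, Set.ncard_eq_toFinset_card _ hfin]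
  rw [Finset.card_eq_sum_card_fiberwise (f := pt) (t := hfin.toFinset) (fun v hv => by
    simp only [Finset.mem_coe, Finset.mem_filter] at hv
    simp only [Finset.mem_coe, Set.Finite.mem_toFinset]
    exact ⟨h.mem v hv.2.1, hv.2.2⟩)]
  have hfib : ∀ y ∈ hfin.toFinset,
      ((Finset.univ.filter fun v : Fin n → F => Iso v ∧ P (pt v)).filter fun v => pt v = y).card = 3 := by
    intro y hy
    rw [Set.Finite.mem_toFinset] at hy
    obtain ⟨v₀, hv₀, rfl⟩ := h.surj y hy.1
    have e : ((Finset.univ.filter fun v : Fin n → F => Iso v ∧ P (pt v)).filter fun v => pt v = pt v₀)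
        = ((Finset.univ : Finset F).erase 0).image fun a => a • v₀ := by
      ext v
      simp only [Finset.mem_filter, Finset.mem_univ, true_and, Finset.mem_image, Finset.mem_erase, and_true]
      constructor
      · rintro ⟨⟨hv, -⟩, he⟩
        obtain ⟨a, ha, rfl⟩ := (h.eq_iff v₀ v hv₀ hv).1 he.symm
        exact ⟨a, ha, rfl⟩
      · rintro ⟨a, ha, rfl⟩
        refine ⟨⟨hv₀.smul h.card ha, ?_⟩, h.smul_pt hv₀ ha⟩
        rw [h.smul_pt hv₀ ha]; exact hy.2
    rw [e, Finset.card_image_of_injective _ (smul_left_injective F hv₀.1), Finset.card_erase_of_mem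
      (Finset.mem_univ _), Finset.card_univ, h.card]
  rw [Finset.sum_congr rfl hfib, Finset.sum_const, smul_eq_mul, mul_comm]

end Vectors

/-- The square root, by bisection. -/
def isqAux (d : ℕ) : ℕ → ℕ → ℕ → ℕ
  | 0, lo, _ => lo
  | fuel + 1, lo, hi =>
    if lo + 1 < hi then
      if ((lo + hi) / 2) * ((lo + hi) / 2) ≤ d then isqAux d fuel ((lo + hi) / 2) hi
      else isqAux d fuel lo ((lo + hi) / 2)
    else lo

/-- The parameters 2709, 660 with `mu` common neighbours are impossible. -/
def chkSeven (mu : ℕ) : Bool :=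
  let d := srgDisc 2709 660 mu
  let t := srgTr (1 + 2709 + 5548032 / mu) 2709 660 mu
  let r := isqAux d.natAbs 30 0 10000
  decide (5548032 % mu ≠ 0) || (decide (0 < d) && decide (t ≠ 0) && decide ((r * r : ℤ) ≤ d) &&
    decide (d < ((r + 1) * (r + 1) : ℤ)) && (decide ((r * r : ℤ) ≠ d) || decide (t % (r : ℤ) ≠ 0)))

theorem chkSeven_all : ((List.range 2709).all fun i => chkSeven (i + 1)) = true := by decide +kernel

/-- No class has a unitary local group of dimension seven. -/
theorem no_local_seven {G : Type*} [Group G] [Finite G] {D : Set G} {F : Type} [Field F] [Fintype F]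
    {x : G} (h : Central D) (hx : x ∈ D) (pt : (Fin 7 → F) → G) (hch : ChartU (adj D x) pt) : False := by
  have hk : (adj D x).ncard = 2709 := by
    have h1 := hch.card_vecs fun _ => True
    simp only [and_true, Set.ofPred_mem_eq] at h1
    rw [count_iso_seven hch.card] at h1
    omega
  have hlam : ∀ v ∈ adj D x, (common D x v).ncard = 660 := by
    intro v hv
    obtain ⟨u, hu, rfl⟩ := hch.surj v hv
    have h1 := hch.card_vecs fun y => Commute y (pt u)
    rw [show Nat.card {w : Fin 7 → F // Iso w ∧ Commute (pt w) (pt u)}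
        = Nat.card {w : Fin 7 → F // Iso w ∧ hf w u = 0} from
      Nat.card_congr (Equiv.subtypeEquivRight fun w => and_congr_right fun hw => hch.comm w u hw hu),
      count_perp_seven hch.card hu] at h1
    have e : {y | y ∈ adj D x ∧ Commute y (pt u)} = insert (pt u) (adj D x ∩ adj D (pt u)) := by
      ext y
      constructor
      · rintro ⟨hy, hc⟩
        by_cases h2 : y = pt u
        · exact Or.inl h2
        · exact Or.inr ⟨hy, hy.1, h2, hc.symm⟩
      · rintro (rfl | ⟨hy, hy'⟩)
        exacts [⟨hv, Commute.refl _⟩, ⟨hy, hy'.2.2.symm⟩]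
    rw [e, Set.ncard_insert_of_notMem (fun h' => h'.2.2.1 rfl)] at h1
    show (adj D x ∩ adj D (pt u)).ncard = 660
    omega
  obtain ⟨z, hz, hxz⟩ := h.toBase.two_of_adj hx
  obtain ⟨y, hy⟩ := h.toBase.common_nonempty h.conn hx hz hxz
  set mu := (common D x z).ncard with hmu
  have hpos : 0 < mu := (Set.ncard_pos).2 ⟨y, hy⟩
  have hle : mu ≤ 2709 := hk ▸ Set.ncard_le_ncard Set.inter_subset_left
  have hN : 2709 * (2709 - 660 - 1) = 5548032 := by norm_num
  have hcnt := h.toBase.count h.conn hx (z := z) ⟨hz, hxz⟩ hk hlam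
  rw [← hmu, hN] at hcnt
  have hmod : 5548032 % mu = 0 := by rw [hcnt, Nat.mul_mod_left]
  have hall := List.all_eq_true.1 chkSeven_all (mu - 1) (List.mem_range.2 (by omega))
  rw [show mu - 1 + 1 = mu by omega] at hall
  simp only [chkSeven, Bool.or_eq_true, Bool.and_eq_true, decide_eq_true_eq] at hall
  obtain ⟨⟨⟨⟨hd, ht⟩, h1⟩, h2⟩, h3⟩ := hall.resolve_left (fun e => e hmod)
  obtain ⟨l, hl, hsrg⟩ := h.toBase.srg h.conn hx (z := z) ⟨hz, hxz⟩ hk hlam rfl hd
  rw [← hmu, hN] at hl
  have el : l = 5548032 / mu := by rw [hl, Nat.mul_div_cancel _ hpos]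
  subst el
  rcases hsrg with e | ⟨s, hs, hdvd⟩
  · exact ht e
  set r := isqAux (srgDisc 2709 660 mu).natAbs 30 0 10000
  have hsr : s = r := by
    rw [← hs] at h1 h2
    have a1 : r ≤ s := by
      by_contra hlt
      have : (s : ℤ) + 1 ≤ r := by omega
      nlinarith
    have a2 : s ≤ r := by
      by_contra hlt
      have : (r : ℤ) + 1 ≤ s := by omega
      nlinarith
    omega
  subst hsr
  rcases h3 with e | e
  · exact e (by rw [← hs]; ring)
  · exact e (Int.emod_eq_zero_of_dvd hdvd)

end Cfsg.Agent.FischerMain
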